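import Cfsg.Agent.Lib.BoundedPres.Carmichael

/-!
Permutations of the index set, made even by the exchange of the two special points.
-/

set_option autoImplicit false
set_option linter.unusedSectionVars false
set_option linter.style.haveILetI false

namespace Cfsg.Agent.BoundedPres

open Equiv

variable {Ω : Type*} [DecidableEq Ω] [Fintype Ω] {a b : Ω} {S s : Finset Ω}

/-- A power of the exchange of the two special points. -/
def flipPow (a b : Ω) : ℤˣ →* Perm Ω where
  toFun e := if e = 1 then 1 else swap a b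
  map_one' := if_pos rfl
  map_mul' e e' := by
    rcases Int.units_eq_one_or e with rfl | rfl <;> rcases Int.units_eq_one_or e' with rfl | rfl <;>
      simp

theorem flipPow_fix {e : ℤˣ} {x : Ω} (hxa : x ≠ a) (hxb : x ≠ b) : flipPow a b e x = x := by
  show (if e = 1 then (1 : Perm Ω) else swap a b) x = x
  split_ifs
  · rfl
  · exact swap_apply_of_ne_of_ne hxa hxb

theorem commute_swap_ofSubtype (hS : Good a b S) (π : Perm {x // x ∈ S}) :
    Commute (Perm.ofSubtype π : Perm Ω) (swap a b) := by
  have hfa : Perm.ofSubtype π a = a := Perm.ofSubtype_apply_of_not_mem π hS.ha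
  have hfb : Perm.ofSubtype π b = b := Perm.ofSubtype_apply_of_not_mem π hS.hb
  show Perm.ofSubtype π * swap a b = swap a b * Perm.ofSubtype π
  rw [← mul_inv_eq_iff_eq_mul, ← Equiv.swap_apply_apply, hfa, hfb]

theorem commute_flipPow (hS : Good a b S) (π : Perm {x // x ∈ S}) (e : ℤˣ) :
    Commute (Perm.ofSubtype π : Perm Ω) (flipPow a b e) := by
  show Commute _ (if e = 1 then (1 : Perm Ω) else swap a b)
  split_ifs
  · exact Commute.one_right _
  · exact commute_swap_ofSubtype hS π

/-- A permutation of `S` made even. -/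
def kap (hS : Good a b S) : Perm {x // x ∈ S} →* Perm Ω where
  toFun π := Perm.ofSubtype π * flipPow a b (Perm.sign π)
  map_one' := by rw [map_one, map_one, map_one, one_mul]
  map_mul' π π' := by
    rw [map_mul, map_mul, map_mul]
    exact (commute_flipPow hS π' (Perm.sign π)).mul_mul_mul_comm _ _

theorem kap_apply (hS : Good a b S) (π : Perm {x // x ∈ S}) :
    kap hS π = Perm.ofSubtype π * flipPow a b (Perm.sign π) := rfl

theorem kap_fix (hS : Good a b S) (π : Perm {x // x ∈ S}) {x : Ω} (hxa : x ≠ a) (hxb : x ≠ b)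
    (hx : x ∉ S) : kap hS π x = x := by
  rw [kap_apply, Perm.mul_apply, flipPow_fix hxa hxb, Perm.ofSubtype_apply_of_not_mem π hx]

theorem kap_coe (hS : Good a b S) (π : Perm {x // x ∈ S}) (x : {x // x ∈ S}) :
    kap hS π x = π x := by
  rw [kap_apply, Perm.mul_apply, flipPow_fix (hS.ne_a x.2) (hS.ne_b x.2), Perm.ofSubtype_apply_coe]

/-- The conjugation of a three-cycle. -/
theorem kap_conj (hS : Good a b S) (π : Perm {x // x ∈ S}) {i : Ω} (hia : i ≠ a) (hib : i ≠ b) :
    kap hS π * cyc a b i * (kap hS π)⁻¹ =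
      if Perm.sign π = 1 then cyc a b (kap hS π i) else (cyc a b (kap hS π i))⁻¹ := by
  set q : Perm Ω := Perm.ofSubtype π with hq
  have hqa : q a = a := Perm.ofSubtype_apply_of_not_mem π hS.ha
  have hqb : q b = b := Perm.ofSubtype_apply_of_not_mem π hS.hb
  have hki : kap hS π i = q i := by rw [kap_apply, Perm.mul_apply, flipPow_fix hia hib]
  have hqc : q * cyc a b i * q⁻¹ = cyc a b (q i) := by
    rw [cyc, cyc, show q * (swap a i * swap a b) * q⁻¹ = q * swap a i * q⁻¹ * (q * swap a b * q⁻¹) by
      group, ← Equiv.swap_apply_apply, ← Equiv.swap_apply_apply, hqa, hqb]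
  rw [hki]
  by_cases hs : Perm.sign π = 1
  · rw [if_pos hs, kap_apply, hs, map_one, mul_one, hqc]
  · rw [if_neg hs, kap_apply]
    have e1 : flipPow a b (Perm.sign π) = swap a b := if_neg hs
    have e2 : swap a b * cyc a b i * (swap a b)⁻¹ = (cyc a b i)⁻¹ := by
      rw [cyc_inv, cyc, swap_inv, mul_assoc, mul_assoc, swap_mul_self, mul_one]
    rw [e1, show q * swap a b * cyc a b i * (q * swap a b)⁻¹ =
      q * (swap a b * cyc a b i * (swap a b)⁻¹) * q⁻¹ by group, e2, ← hqc]
    group

theorem kap_mem (hS : Good a b S) (hSs : S ⊆ s) (π : Perm {x // x ∈ S}) :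
    kap hS π ∈ Cs a b s := by
  induction π using Perm.swap_induction_on with
  | one => rw [map_one]; exact one_mem _
  | swap_mul f x y hxy ih =>
    rw [map_mul]
    refine mul_mem ?_ ih
    have hx := x.2
    have hy := y.2
    have hne : (x : Ω) ≠ y := fun e => hxy (Subtype.ext e)
    have e : swap (x : Ω) y = swap a x * swap a y * (swap a x)⁻¹ := by
      rw [← Equiv.swap_apply_apply, swap_apply_left, swap_apply_of_ne_of_ne (hS.ne_a hy) hne.symm]
    have e2 : flipPow a b (-1 : ℤˣ) = (swap a b : Perm Ω) :=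
      if_neg (t := (1 : Perm Ω)) (show ¬((-1 : ℤˣ) = 1) by decide)
    have e3 : Perm.ofSubtype (swap x y) = swap (x : Ω) y := Perm.ofSubtype_swap_eq x y
    rw [kap_apply, Perm.sign_swap hxy, e3, e2, e, swap_inv,
      show swap a (x : Ω) * swap a y * swap a x * swap a b = cyc a b x * (cyc a b y)⁻¹ * cyc a b x by
        rw [cyc_inv]
        unfold cyc
        simp only [mul_assoc, swap_mul_self_mul]]
    exact mul_mem (mul_mem (cyc_mem (hSs hx)) (inv_mem (cyc_mem (hSs hy)))) (cyc_mem (hSs hx))

/-- The even permutations of `S`, inside the group of three-cycles. -/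
def kapC (hS : Good a b S) (hSs : S ⊆ s) : Perm {x // x ∈ S} →* Cs a b s :=
  (kap hS).codRestrict _ (kap_mem hS hSs)

theorem kapC_val (hS : Good a b S) (hSs : S ⊆ s) (π : Perm {x // x ∈ S}) :
    ((kapC hS hSs π : Cs a b s) : Perm Ω) = kap hS π := rfl

/-- The transported conjugation. -/
theorem kapC_conj (hS : Good a b S) (hs : Good a b s) (hSs : S ⊆ s) (π : Perm {x // x ∈ S}) {i : Ω}
    (hi : i ∈ s) (hki : kap hS π i ∈ s) {G : Type*} [Group G] (f : Cs a b s →* G) :
    f (kapC hS hSs π) * f ⟨cyc a b i, cyc_mem hi⟩ * (f (kapC hS hSs π))⁻¹ =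
      if Perm.sign π = 1 then f ⟨cyc a b (kap hS π i), cyc_mem hki⟩
      else (f ⟨cyc a b (kap hS π i), cyc_mem hki⟩)⁻¹ := by
  have h := kap_conj hS π (hs.ne_a hi) (hs.ne_b hi)
  rw [← map_inv, ← map_mul, ← map_mul]
  split_ifs with hp
  · rw [if_pos hp] at h
    exact congrArg f (Subtype.ext h)
  · rw [if_neg hp] at h
    refine Eq.trans (congrArg f ?_) (map_inv f _)
    exact Subtype.ext h

/-- A full symmetric group is generated by two permutations. -/
theorem exists_perm_gen (α : Type*) [Fintype α] [DecidableEq α] :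
    ∃ u v : Perm α, Subgroup.closure ({u, v} : Set (Perm α)) = ⊤ := by
  by_cases h : Fintype.card α ≤ 1
  · haveI := Fintype.card_le_one_iff_subsingleton.1 h
    exact ⟨1, 1, Subsingleton.elim _ _⟩
  obtain ⟨m, hm⟩ : ∃ m, Fintype.card α = m + 2 := ⟨Fintype.card α - 2, by omega⟩
  let e : Fin (m + 2) ≃ α := (Fintype.equivFinOfCardEq hm).symm
  let E : Perm (Fin (m + 2)) ≃* Perm α := e.permCongrHom
  have h1 := Perm.closure_cycle_adjacent_swap (isCycle_finRotate (n := m)) support_finRotate
    (0 : Fin (m + 2))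
  refine ⟨E (finRotate (m + 2)), E (swap 0 (finRotate (m + 2) 0)), ?_⟩
  have h2 := congrArg (Subgroup.map E.toMonoidHom) h1
  rw [MonoidHom.map_closure, Subgroup.map_top_of_surjective _ E.surjective, Set.image_insert_eq,
    Set.image_singleton] at h2
  exact h2

theorem exists_perm_gens (α : Type*) [Fintype α] [DecidableEq α] :
    ∃ g : Finset (Perm α), g.card ≤ 2 ∧ Subgroup.closure (g : Set (Perm α)) = ⊤ := by
  obtain ⟨u, v, h⟩ := exists_perm_gen α
  exact ⟨{u, v}, Finset.card_le_two, by rw [Finset.coe_pair]; exact h⟩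

/-- All three-cycles through the special points generate the alternating group. -/
theorem Cs_eq_alternating (hs : Good a b s) (hfull : ∀ x, x ≠ a → x ≠ b → x ∈ s) :
    Cs a b s = alternatingGroup Ω := by
  set C := Cs a b s with hC
  have hle : C ≤ alternatingGroup Ω := by
    rw [hC, Cs, Subgroup.closure_le]
    rintro _ ⟨i, hi, rfl⟩
    rw [SetLike.mem_coe, Perm.mem_alternatingGroup, cyc, map_mul, Perm.sign_swap (hs.ne_a hi).symm,
      Perm.sign_swap hs.ne]
    rfl
  have hnorm : ∀ c ∈ C, swap a b * c * (swap a b)⁻¹ ∈ C := by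
    intro c hc
    induction hc using Subgroup.closure_induction with
    | mem y hy =>
      obtain ⟨i, hi, rfl⟩ := hy
      rw [show swap a b * cyc a b i * (swap a b)⁻¹ = (cyc a b i)⁻¹ by
        rw [cyc_inv, cyc, swap_inv, mul_assoc, mul_assoc, swap_mul_self, mul_one]]
      exact inv_mem (cyc_mem (Finset.mem_coe.1 hi))
    | one => rw [mul_one, mul_inv_cancel]; exact one_mem _
    | mul y z _ _ h1 h2 =>
      have := mul_mem h1 h2
      rwa [show swap a b * y * (swap a b)⁻¹ * (swap a b * z * (swap a b)⁻¹) =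
        swap a b * (y * z) * (swap a b)⁻¹ by group] at this
    | inv y _ h1 =>
      have := inv_mem h1
      rwa [show (swap a b * y * (swap a b)⁻¹)⁻¹ = swap a b * y⁻¹ * (swap a b)⁻¹ by group] at this
  -- every transposition at `a` lies in `C` extended by the exchange
  have hswap : ∀ x, x ≠ a → ∀ σ, (σ ∈ C ∨ σ * swap a b ∈ C) → (σ * swap a x ∈ C ∨ σ * swap a x * swap a b ∈ C) := by
    intro x hxa σ hσ
    by_cases hxb : x = b
    · rw [hxb]
      rcases hσ with h | h
      · exact Or.inr (by rwa [mul_assoc, swap_mul_self, mul_one])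
      · exact Or.inl h
    · have hx := hfull x hxa hxb
      rcases hσ with h | h
      · exact Or.inr (by rw [mul_assoc, ← cyc]; exact mul_mem h (cyc_mem hx))
      · refine Or.inl ?_
        have := mul_mem h (inv_mem (cyc_mem (a := a) (b := b) hx))
        rwa [cyc_inv, mul_assoc, ← mul_assoc (swap a b) (swap a b), swap_mul_self, one_mul] at this
  have hall : ∀ σ : Perm Ω, σ ∈ C ∨ σ * swap a b ∈ C := by
    have : ∀ f : Perm Ω, ∀ σ, (σ ∈ C ∨ σ * swap a b ∈ C) → (σ * f ∈ C ∨ σ * f * swap a b ∈ C) := by
      intro f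
      induction f using Perm.swap_induction_on with
      | one => intro σ hσ; rwa [mul_one]
      | swap_mul f x y hxy ih =>
        intro σ hσ
        rw [← mul_assoc]
        refine ih _ ?_
        rcases eq_or_ne x a with hxa | hxa
        · rw [hxa]; exact hswap y (hxa ▸ hxy.symm) σ hσ
        rcases eq_or_ne y a with hya | hya
        · rw [hya, swap_comm]; exact hswap x hxa σ hσ
        rw [show swap x y = swap a x * swap a y * swap a x by
          conv_rhs => rw [show swap a x * swap a y * swap a x = swap a x * swap a y * (swap a x)⁻¹ by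
            rw [swap_inv], ← Equiv.swap_apply_apply, swap_apply_left,
            swap_apply_of_ne_of_ne hya hxy.symm], ← mul_assoc, ← mul_assoc]
        exact hswap x hxa _ (hswap y hya _ (hswap x hxa σ hσ))
    intro σ
    simpa using this σ 1 (Or.inl (one_mem C))
  refine le_antisymm hle fun σ hσ => ?_
  rcases hall σ with h | h
  · exact h
  · have := hle h
    rw [Perm.mem_alternatingGroup, map_mul, Perm.mem_alternatingGroup.1 hσ, Perm.sign_swap hs.ne] at this
    exact absurd this (by decide)

end Cfsg.Agent.BoundedPres
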