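import Cfsg.Agent.Lib.BoundedPres.Basic
import Cfsg.Agent.Lib.BoundedPres.Kappa

/-!
The group of three-cycles on a prime number of points has a presentation with seven relations.
-/

set_option autoImplicit false
set_option linter.unusedSectionVars false
set_option linter.style.haveILetI false

namespace Cfsg.Agent.BoundedPres

open Equiv

section pairs

variable {G : Type*} [Group G]

theorem pair_pm {x y z B : G} (e : ℤˣ) (hx : B * x * B⁻¹ = if e = 1 then x else x⁻¹)
    (hy : B * y * B⁻¹ = if e = 1 then z else z⁻¹) (h : (x * y) ^ 2 = 1) : (x * z) ^ 2 = 1 := by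
  have h1 : (B * x * B⁻¹ * (B * y * B⁻¹)) ^ 2 = 1 := by
    rw [show B * x * B⁻¹ * (B * y * B⁻¹) = B * (x * y) * B⁻¹ by group, conj_pow, h, mul_one,
      mul_inv_cancel]
  rw [hx, hy] at h1
  rcases Int.units_eq_one_or e with rfl | rfl
  · simpa using h1
  · rw [if_neg (show ¬((-1 : ℤˣ) = 1) by decide), if_neg (show ¬((-1 : ℤˣ) = 1) by decide)] at h1
    simpa using pair_inv h1

end pairs

variable {Ω : Type*} [DecidableEq Ω] [Fintype Ω] {a b : Ω} {S : Finset Ω}

/-- Few points. -/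
theorem presB_small (hS : Good a b S) : PresB (Cs a b S) (S.card + S.card * S.card) := by
  classical
  let k := S.card
  let e : Fin k ≃ {x // x ∈ S} := S.equivFin.symm
  let v : Fin k → Cs a b S := fun i => ⟨cyc a b (e i), cyc_mem (e i).2⟩
  let R : Finset (FreeGroup (Fin k)) := (Finset.univ.image fun i => FreeGroup.of i ^ 3) ∪
    (Finset.univ.image fun q : Fin k × Fin k =>
      if q.1 = q.2 then 1 else (FreeGroup.of q.1 * FreeGroup.of q.2) ^ 2)
  refine of_data R ?_ v ?_ ?_ ?_
  · refine (Finset.card_union_le _ _).trans (Nat.add_le_add ?_ ?_) <;>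
      refine Finset.card_image_le.trans (le_of_eq ?_) <;> simp [k]
  · intro x hx
    simp only [R, Finset.mem_union, Finset.mem_image, Finset.mem_univ, true_and] at hx
    rcases hx with ⟨i, rfl⟩ | ⟨⟨i, j⟩, rfl⟩
    · rw [map_pow, FreeGroup.lift_apply_of]
      exact Subtype.ext ((carRel_cyc hS).cube _ (e i).2)
    · split_ifs with hij
      · exact map_one _
      · rw [map_pow, map_mul, FreeGroup.lift_apply_of, FreeGroup.lift_apply_of]
        exact Subtype.ext ((carRel_cyc hS).pair _ (e i).2 _ (e j).2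
          fun h => hij (e.injective (Subtype.ext h)))
  · rw [eq_top_iff]
    rintro ⟨g, hg⟩ -
    have : Subgroup.closure (cyc a b '' (S : Set Ω)) ≤
        (Subgroup.closure (Set.range v)).map (Cs a b S).subtype := by
      rw [Subgroup.closure_le]
      rintro _ ⟨i, hi, rfl⟩
      refine ⟨v (e.symm ⟨i, Finset.mem_coe.1 hi⟩), Subgroup.subset_closure ⟨_, rfl⟩, ?_⟩
      simp [v]
    obtain ⟨y, hy, hyg⟩ := this hg
    obtain rfl : y = ⟨g, hg⟩ := Subtype.ext hyg
    exact hy
  · intro G _ w hw _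
    have hR1 : ∀ i, w i ^ 3 = 1 := fun i => by
      simpa using hw _ (Finset.mem_union_left _ (Finset.mem_image.2 ⟨i, Finset.mem_univ _, rfl⟩))
    have hR2 : ∀ i j, i ≠ j → (w i * w j) ^ 2 = 1 := fun i j hij => by
      simpa [hij] using hw _ (Finset.mem_union_right _ (Finset.mem_image.2 ⟨(i, j), Finset.mem_univ _, rfl⟩))
    let X : Ω → G := fun x => if h : x ∈ S then w (e.symm ⟨x, h⟩) else 1
    obtain ⟨f, hf⟩ := car_hom hS X ⟨fun i hi => by simp only [X, dif_pos hi, hR1],
      fun i hi j hj hij => by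
        simp only [X, dif_pos hi, dif_pos hj]
        exact hR2 _ _ fun h => hij (congrArg Subtype.val (e.symm.injective h))⟩
    refine ⟨f, fun i => ?_⟩
    rw [show v i = ⟨cyc a b (e i), cyc_mem (e i).2⟩ from rfl, hf _ (e i).2]
    simp [X]

set_option maxHeartbeats 1000000 in
/-- A prime number of points. -/
theorem presB_prime (hS : Good a b S) {p : ℕ} (hp : p.Prime) (hp2 : p ≠ 2) (hc : S.card = p) :
    PresB (Cs a b S) 7 := by
  classical
  haveI := Fact.mk hp
  let e : ZMod p ≃ {x // x ∈ S} :=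
    Fintype.equivOfCardEq (by rw [ZMod.card, Fintype.card_coe, hc])
  obtain ⟨r, hr⟩ := IsCyclic.exists_generator (α := (ZMod p)ˣ)
  let τ : Perm {x // x ∈ S} := e.permCongr (Equiv.addLeft 1)
  let μ : Perm {x // x ∈ S} := e.permCongr (Units.mulLeft r)
  let A₀ : Cs a b S := kapC hS subset_rfl τ
  let B₀ : Cs a b S := kapC hS subset_rfl μ
  let c : ZMod p → Cs a b S := fun i => ⟨cyc a b (e i), cyc_mem (e i).2⟩
  let ε : ℤˣ := Perm.sign μ
  -- basic facts about the translation
  have hτpow : ∀ (m : ℕ) (i : ZMod p), (τ ^ m) (e i) = e ((m : ZMod p) + i) := by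
    intro m
    induction m with
    | zero => intro i; simp
    | succ m ih =>
      intro i
      rw [pow_succ', Perm.mul_apply, ih]
      simp only [τ, Equiv.permCongr_apply, Equiv.symm_apply_apply, Equiv.coe_addLeft]
      push_cast
      ring_nf
  have hτp : τ ^ p = 1 := Equiv.ext fun x => by
    obtain ⟨i, rfl⟩ := e.surjective x
    rw [hτpow, ZMod.natCast_self, zero_add]; rfl
  have hsτ : Perm.sign τ = 1 := by
    have h := congrArg Perm.sign hτp
    rw [map_pow, map_one] at h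
    rcases Int.units_eq_one_or (Perm.sign τ) with h1 | h1
    · exact h1
    · rw [h1, (hp.odd_of_ne_two hp2).neg_one_pow] at h
      exact absurd h (by decide)
  have hμ : ∀ i : ZMod p, μ (e i) = e ((r : ZMod p) * i) := fun i => by
    simp [μ, Equiv.permCongr_apply]
  have hτc : ∀ (m : ℕ) (i : ZMod p), A₀ ^ m * c i * (A₀ ^ m)⁻¹ = c ((m : ZMod p) + i) := by
    intro m i
    have h := kap_conj hS (τ ^ m) (hS.ne_a (e i).2) (hS.ne_b (e i).2)
    rw [map_pow Perm.sign, hsτ, one_pow, if_pos rfl, kap_coe, hτpow] at h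
    refine Subtype.ext ?_
    simpa [A₀, c, map_pow, kapC_val] using h
  have hμc : ∀ i : ZMod p, B₀ * c i * B₀⁻¹ =
      if ε = 1 then c ((r : ZMod p) * i) else (c ((r : ZMod p) * i))⁻¹ := by
    intro i
    have h := kap_conj hS μ (hS.ne_a (e i).2) (hS.ne_b (e i).2)
    rw [kap_coe, hμ] at h
    refine Subtype.ext ?_
    split_ifs with h1
    · rw [if_pos h1] at h; simpa [B₀, c, kapC_val] using h
    · rw [if_neg h1] at h; simpa [B₀, c, kapC_val] using h
  have hAp : A₀ ^ p = 1 := by rw [← map_pow, hτp, map_one]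
  have hBA : B₀ * A₀ * B₀⁻¹ = A₀ ^ (r : ZMod p).val := by
    rw [← map_inv, ← map_mul, ← map_mul, ← map_pow]
    refine congrArg _ (Equiv.ext fun x => ?_)
    obtain ⟨i, rfl⟩ := e.surjective x
    have h1 : μ⁻¹ (e i) = e ((r⁻¹ : (ZMod p)ˣ) * i) :=
      Perm.inv_eq_iff_eq.2 (by rw [hμ, Units.mul_inv_cancel_left])
    have h2 : τ (e ((r⁻¹ : (ZMod p)ˣ) * i)) = e (1 + (r⁻¹ : (ZMod p)ˣ) * i) := by
      have h := hτpow 1 (((r⁻¹ : (ZMod p)ˣ) : ZMod p) * i)
      rwa [pow_one, Nat.cast_one] at h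
    rw [Perm.mul_apply, Perm.mul_apply, h1, h2, hμ, hτpow, mul_add, mul_one, Units.mul_inv_cancel_left,
      ZMod.natCast_zmod_val]
  have hcgen : Subgroup.closure (Set.range c) = ⊤ := by
    rw [eq_top_iff]
    rintro ⟨g, hg⟩ -
    have : Subgroup.closure (cyc a b '' (S : Set Ω)) ≤
        (Subgroup.closure (Set.range c)).map (Cs a b S).subtype := by
      rw [Subgroup.closure_le]
      rintro _ ⟨i, hi, rfl⟩
      refine ⟨c (e.symm ⟨i, Finset.mem_coe.1 hi⟩), Subgroup.subset_closure ⟨_, rfl⟩, ?_⟩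
      simp [c]
    obtain ⟨y, hy, hyg⟩ := this hg
    obtain rfl : y = ⟨g, hg⟩ := Subtype.ext hyg
    exact hy
  obtain ⟨uA, huA⟩ := exists_word c (t := A₀) (hcgen ▸ Subgroup.mem_top _)
  obtain ⟨uB, huB⟩ := exists_word c (t := B₀) (hcgen ▸ Subgroup.mem_top _)
  -- the relators
  let oA : FreeGroup (Fin 3) := FreeGroup.of 0
  let oB : FreeGroup (Fin 3) := FreeGroup.of 1
  let oX : FreeGroup (Fin 3) := FreeGroup.of 2
  let Wx : ZMod p → FreeGroup (Fin 3) := fun i => oA ^ i.val * oX * (oA ^ i.val)⁻¹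
  let Xe : FreeGroup (Fin 3) := if ε = 1 then oX else oX⁻¹
  let L : List (FreeGroup (Fin 3)) := [oA ^ p, oB * oA * oB⁻¹ * (oA ^ (r : ZMod p).val)⁻¹,
    oB * oX * oB⁻¹ * Xe⁻¹, oX ^ 3, (oX * (oA * oX * oA⁻¹)) ^ 2,
    oA * (FreeGroup.lift Wx uA)⁻¹, oB * (FreeGroup.lift Wx uB)⁻¹]
  let v : Fin 3 → Cs a b S := ![A₀, B₀, c 0]
  have hvA : FreeGroup.lift v oA = A₀ := FreeGroup.lift_apply_of
  have hvB : FreeGroup.lift v oB = B₀ := FreeGroup.lift_apply_of
  have hvX : FreeGroup.lift v oX = c 0 := FreeGroup.lift_apply_of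
  have hvW : (FreeGroup.lift v).comp (FreeGroup.lift Wx) = FreeGroup.lift c :=
    FreeGroup.ext_hom _ _ fun i => by
      simp only [MonoidHom.comp_apply, FreeGroup.lift_apply_of, Wx, map_mul, map_inv, map_pow, hvA, hvX,
        hτc, ZMod.natCast_zmod_val, add_zero]
  have hA1 : A₀ * c 0 * A₀⁻¹ = c 1 := by simpa using hτc 1 0
  refine of_data L.toFinset ((List.toFinset_card_le L).trans le_rfl) v ?_ ?_ ?_
  · intro x hx
    simp only [L, List.mem_toFinset, List.mem_cons, List.not_mem_nil, or_false] at hx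
    rcases hx with rfl | rfl | rfl | rfl | rfl | rfl | rfl
    · rw [map_pow, hvA, hAp]
    · rw [map_mul, map_mul, map_mul, map_inv, map_inv, map_pow, hvA, hvB, hBA, mul_inv_cancel]
    · rw [map_mul, map_mul, map_mul, map_inv, map_inv, hvB, hvX, hμc, mul_zero]
      simp only [Xe]
      split_ifs with h1
      · rw [hvX, mul_inv_cancel]
      · rw [map_inv, hvX, inv_inv, inv_mul_cancel]
    · rw [map_pow, hvX]
      exact Subtype.ext ((carRel_cyc hS).cube _ (e 0).2)
    · rw [map_pow, map_mul, map_mul, map_mul, map_inv, hvA, hvX, hA1]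
      exact Subtype.ext ((carRel_cyc hS).pair _ (e 0).2 _ (e 1).2
        fun h => zero_ne_one (e.injective (Subtype.ext h)))
    · rw [map_mul, map_inv, hvA, show FreeGroup.lift v (FreeGroup.lift Wx uA) = A₀ from
        (DFunLike.congr_fun hvW uA).trans huA, mul_inv_cancel]
    · rw [map_mul, map_inv, hvB, show FreeGroup.lift v (FreeGroup.lift Wx uB) = B₀ from
        (DFunLike.congr_fun hvW uB).trans huB, mul_inv_cancel]
  · rw [eq_top_iff, ← hcgen, Subgroup.closure_le]
    rintro _ ⟨i, rfl⟩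
    rw [show c i = A₀ ^ i.val * c 0 * (A₀ ^ i.val)⁻¹ by rw [hτc, ZMod.natCast_zmod_val, add_zero]]
    have h0 : A₀ ∈ Subgroup.closure (Set.range v) := Subgroup.subset_closure ⟨0, rfl⟩
    exact mul_mem (mul_mem (pow_mem h0 _) (Subgroup.subset_closure ⟨2, rfl⟩)) (inv_mem (pow_mem h0 _))
  · intro G _ w hw _
    set A := w 0 with hA
    set B := w 1 with hB
    set X := w 2 with hX
    have hl : ∀ x ∈ L, FreeGroup.lift w x = 1 := fun x hx => hw x (List.mem_toFinset.2 hx)
    simp only [L, List.mem_cons, List.not_mem_nil, or_false, forall_eq_or_imp, forall_eq] at hl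
    obtain ⟨l1, l2, l3, l4, l5, l6, l7⟩ := hl
    simp only [oA, oB, oX, map_mul, map_inv, map_pow, FreeGroup.lift_apply_of, ← hA, ← hB, ← hX,
      mul_inv_eq_one] at l1 l2 l3 l4 l5 l6 l7
    have hXe : FreeGroup.lift w Xe = if ε = 1 then X else X⁻¹ := by
      simp only [Xe]; split_ifs <;> simp [oX, hX]
    rw [hXe] at l3
    let Y : ZMod p → G := fun i => A ^ i.val * X * (A ^ i.val)⁻¹
    have hwW : (FreeGroup.lift w).comp (FreeGroup.lift Wx) = FreeGroup.lift Y :=
      FreeGroup.ext_hom _ _ fun i => by simp [Wx, Y, oA, oX, hA, hX]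
    have hAmod : ∀ m, A ^ m = A ^ (m % p) := fun m => by
      conv_lhs => rw [← Nat.mod_add_div m p, pow_add, pow_mul, l1, one_pow, mul_one]
    have hAY : ∀ (m : ℕ) (i : ZMod p), A ^ m * Y i * (A ^ m)⁻¹ = Y ((m : ZMod p) + i) := by
      intro m i
      have : A ^ ((m : ZMod p) + i).val = A ^ m * A ^ i.val := by
        rw [ZMod.val_add, ZMod.val_natCast, ← hAmod, pow_add, ← hAmod]
      simp only [Y, this]; group
    have hY0 : Y 0 = X := by simp [Y]
    have hBY : ∀ i : ZMod p, B * Y i * B⁻¹ =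
        if ε = 1 then Y ((r : ZMod p) * i) else (Y ((r : ZMod p) * i))⁻¹ := by
      intro i
      have e1 : B * A ^ i.val * B⁻¹ = A ^ ((r : ZMod p) * i).val := by
        rw [← conj_pow, l2, ← pow_mul, hAmod, ZMod.val_mul]
      have e2 : B * Y i * B⁻¹ = A ^ ((r : ZMod p) * i).val * (B * X * B⁻¹) *
          (A ^ ((r : ZMod p) * i).val)⁻¹ := by
        rw [← e1]; simp only [Y]; group
      rw [e2, l3]
      simp only [Y]
      split_ifs <;> group
    have h01 : (Y 0 * Y 1) ^ 2 = 1 := by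
      have : Y 1 = A * X * A⁻¹ := by simp [Y, ZMod.val_one]
      rw [hY0, this]; exact l5
    have h0r : ∀ n : ℕ, (Y 0 * Y (((r ^ n : (ZMod p)ˣ) : ZMod p))) ^ 2 = 1 := by
      intro n
      induction n with
      | zero => simpa using h01
      | succ n ih =>
        refine pair_pm (B := B) ε ?_ ?_ ih
        · rw [hBY, mul_zero]
        · rw [hBY, pow_succ', Units.val_mul]
    have h0d : ∀ d : ZMod p, d ≠ 0 → (Y 0 * Y d) ^ 2 = 1 := by
      intro d hd
      obtain ⟨n, hn⟩ := mem_powers_iff_mem_zpowers.2 (hr (Units.mk0 d hd))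
      have := h0r n
      rw [show r ^ n = Units.mk0 d hd from hn] at this
      exact this
    have hrel : ∀ i j : ZMod p, i ≠ j → (Y i * Y j) ^ 2 = 1 := by
      intro i j hij
      have := h0d (j - i) (sub_ne_zero.2 hij.symm)
      have e1 := hAY i.val 0
      have e2 := hAY i.val (j - i)
      rw [ZMod.natCast_zmod_val, add_zero] at e1
      rw [ZMod.natCast_zmod_val, add_sub_cancel] at e2
      rw [← e1, ← e2, show A ^ i.val * Y 0 * (A ^ i.val)⁻¹ * (A ^ i.val * Y (j - i) * (A ^ i.val)⁻¹) =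
        A ^ i.val * (Y 0 * Y (j - i)) * (A ^ i.val)⁻¹ by group, conj_pow, this, mul_one, mul_inv_cancel]
    have hcube : ∀ i, Y i ^ 3 = 1 := fun i => by
      simp only [Y]; rw [conj_pow, l4, mul_one, mul_inv_cancel]
    let Z : Ω → G := fun x => if h : x ∈ S then Y (e.symm ⟨x, h⟩) else 1
    obtain ⟨f, hf⟩ := car_hom hS Z ⟨fun i hi => by simp only [Z, dif_pos hi, hcube],
      fun i hi j hj hij => by
        simp only [Z, dif_pos hi, dif_pos hj]
        exact hrel _ _ fun h => hij (congrArg Subtype.val (e.symm.injective h))⟩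
    have hfc : ∀ i, f (c i) = Y i := fun i => by
      rw [show c i = ⟨cyc a b (e i), cyc_mem (e i).2⟩ from rfl, hf _ (e i).2]
      simp [Z]
    have hfl : ∀ u, f (FreeGroup.lift c u) = FreeGroup.lift w (FreeGroup.lift Wx u) := fun u =>
      (DFunLike.congr_fun (f := f.comp (FreeGroup.lift c)) (g := FreeGroup.lift Y)
        (FreeGroup.ext_hom _ _ fun i => by simp [hfc]) u).trans (DFunLike.congr_fun hwW u).symm
    refine ⟨f, fun i => ?_⟩
    fin_cases i
    · show f A₀ = A
      rw [← huA, hfl, ← l6]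
    · show f B₀ = B
      rw [← huB, hfl, ← l7]
    · show f (c 0) = X
      rw [hfc, hY0]

end Cfsg.Agent.BoundedPres
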