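import Mathlib

/-!
Groups with a presentation on finitely many generators and at most `r` relations.
-/

set_option autoImplicit false

namespace Cfsg.Agent.BoundedPres

universe u

variable {T : Type u} [Group T]

/-- A presentation on a finite alphabet with at most `r` relators. -/
def PresB (T : Type u) [Group T] (r : ℕ) : Prop :=
  ∃ (α : Type) (_ : Finite α) (R : Finset (FreeGroup α)), R.card ≤ r ∧
    Nonempty (PresentedGroup (↑R : Set (FreeGroup α)) ≃* T)

theorem PresB.mono {r r' : ℕ} (h : PresB T r) (hr : r ≤ r') : PresB T r' := by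
  obtain ⟨α, hα, R, hc, he⟩ := h
  exact ⟨α, hα, R, hc.trans hr, he⟩

theorem PresB.congr {r : ℕ} (h : PresB T r) {T' : Type*} [Group T'] (e : T ≃* T') : PresB T' r := by
  obtain ⟨α, hα, R, hc, ⟨f⟩⟩ := h
  exact ⟨α, hα, R, hc, ⟨f.trans e⟩⟩

theorem of_presentation {α : Type} [Finite α] {r : ℕ} (R : Finset (FreeGroup α)) (hR : R.card ≤ r)
    (e : PresentedGroup (↑R : Set (FreeGroup α)) ≃* T) : PresB T r :=
  ⟨α, inferInstance, R, hR, ⟨e⟩⟩

theorem lift_mem_closure {α G : Type*} [Group G] (v : α → G) (g : FreeGroup α) :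
    FreeGroup.lift v g ∈ Subgroup.closure (Set.range v) := by
  rw [← FreeGroup.range_lift_eq_closure]; exact ⟨g, rfl⟩

theorem exists_word {α G : Type*} [Group G] (v : α → G) {t : G}
    (ht : t ∈ Subgroup.closure (Set.range v)) : ∃ g, FreeGroup.lift v g = t := by
  rw [← FreeGroup.range_lift_eq_closure] at ht; exact ht

/-- Generators with the universal property give an isomorphism. -/
theorem exists_equiv {α : Type} (R : Finset (FreeGroup α)) (v : α → T)
    (hv : ∀ r ∈ R, FreeGroup.lift v r = 1) (hgen : Subgroup.closure (Set.range v) = ⊤)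
    (huniv : ∀ (G : Type) [Group G] (w : α → G), (∀ r ∈ R, FreeGroup.lift w r = 1) →
      Subgroup.closure (Set.range w) = ⊤ → ∃ f : T →* G, ∀ i, f (v i) = w i) :
    ∃ e : PresentedGroup (↑R : Set (FreeGroup α)) ≃* T, ∀ i, e (PresentedGroup.of i) = v i := by
  have hv' : ∀ r ∈ (↑R : Set (FreeGroup α)), FreeGroup.lift v r = 1 := fun r hr =>
    hv r (Finset.mem_coe.1 hr)
  obtain ⟨f, hf⟩ := huniv _ (PresentedGroup.of (rels := (↑R : Set (FreeGroup α)))) (fun r hr => by
    rw [show FreeGroup.lift (PresentedGroup.of (rels := (↑R : Set (FreeGroup α)))) = PresentedGroup.mk _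
      from FreeGroup.ext_hom _ _ fun i => by rw [FreeGroup.lift_apply_of]; rfl]
    exact PresentedGroup.one_of_mem (Finset.mem_coe.2 hr)) (PresentedGroup.closure_range_of _)
  refine ⟨MonoidHom.toMulEquiv (PresentedGroup.toGroup hv') f ?_ ?_, fun i => PresentedGroup.toGroup.of hv'⟩
  · exact PresentedGroup.ext fun i => by
      rw [MonoidHom.comp_apply, PresentedGroup.toGroup.of, hf]; rfl
  · refine MonoidHom.eq_of_eqOn_dense hgen ?_
    rintro _ ⟨i, rfl⟩
    rw [MonoidHom.comp_apply, hf, PresentedGroup.toGroup.of]; rfl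

theorem of_data {α : Type} [Finite α] {r : ℕ} (R : Finset (FreeGroup α)) (hR : R.card ≤ r) (v : α → T)
    (hv : ∀ x ∈ R, FreeGroup.lift v x = 1) (hgen : Subgroup.closure (Set.range v) = ⊤)
    (huniv : ∀ (G : Type) [Group G] (w : α → G), (∀ x ∈ R, FreeGroup.lift w x = 1) →
      Subgroup.closure (Set.range w) = ⊤ → ∃ f : T →* G, ∀ i, f (v i) = w i) : PresB T r := by
  obtain ⟨e, -⟩ := exists_equiv R v hv hgen huniv
  exact of_presentation R hR e

/-- The defining data of a bounded presentation. -/
theorem PresB.exists_data {r : ℕ} (h : PresB T r) :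
    ∃ (α : Type) (_ : Finite α) (R : Finset (FreeGroup α)) (v : α → T), R.card ≤ r ∧
      (∀ x ∈ R, FreeGroup.lift v x = 1) ∧ Subgroup.closure (Set.range v) = ⊤ ∧
      ∀ (G : Type) [Group G] (w : α → G), (∀ x ∈ R, FreeGroup.lift w x = 1) →
        ∃ f : T →* G, ∀ i, f (v i) = w i := by
  obtain ⟨α, hα, R, hR, ⟨e⟩⟩ := h
  refine ⟨α, hα, R, fun i => e (PresentedGroup.of i), hR, fun x hx => ?_, ?_, fun G _ w hw => ?_⟩
  · rw [show FreeGroup.lift (fun i => e (PresentedGroup.of i)) = e.toMonoidHom.comp (PresentedGroup.mk _)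
      from FreeGroup.ext_hom _ _ fun i => by rw [FreeGroup.lift_apply_of]; rfl, MonoidHom.comp_apply,
      PresentedGroup.one_of_mem (Finset.mem_coe.2 hx), map_one]
  · rw [show Set.range (fun i => e (PresentedGroup.of i)) =
      e.toMonoidHom '' Set.range (PresentedGroup.of (rels := (↑R : Set (FreeGroup α)))) by
        rw [← Set.range_comp]; rfl, ← MonoidHom.map_closure, PresentedGroup.closure_range_of,
      Subgroup.map_top_of_surjective _ e.surjective]
  · have hw' : ∀ x ∈ (↑R : Set (FreeGroup α)), FreeGroup.lift w x = 1 := fun x hx =>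
      hw x (Finset.mem_coe.1 hx)
    refine ⟨(PresentedGroup.toGroup hw').comp e.symm.toMonoidHom, fun i => ?_⟩
    show PresentedGroup.toGroup hw' (e.symm (e _)) = _
    rw [e.symm_apply_apply, PresentedGroup.toGroup.of]

/-- Change of generators: `m` generators cost `m` more relators. -/
theorem PresB.exists_pres {r : ℕ} (h : PresB T r) {β : Type} [Fintype β] (g : β → T)
    (hg : Subgroup.closure (Set.range g) = ⊤) :
    ∃ S : Finset (FreeGroup β), S.card ≤ r + Fintype.card β ∧
      ∃ e : PresentedGroup (↑S : Set (FreeGroup β)) ≃* T, ∀ b, e (PresentedGroup.of b) = g b := by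
  classical
  obtain ⟨α, hα, R, v, hR, hv, hvgen, huniv⟩ := h.exists_data
  choose p hp using fun i => exists_word g (t := v i) (hg ▸ Subgroup.mem_top _)
  choose q hq using fun b => exists_word v (t := g b) (hvgen ▸ Subgroup.mem_top _)
  let P := FreeGroup.lift p
  refine ⟨R.image P ∪ Finset.univ.image fun b => FreeGroup.of b * (P (q b))⁻¹, ?_, ?_⟩
  · refine (Finset.card_union_le _ _).trans (Nat.add_le_add (Finset.card_image_le.trans hR) ?_)
    exact Finset.card_image_le.trans (le_of_eq rfl)
  have hP : (FreeGroup.lift g).comp P = FreeGroup.lift v :=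
    FreeGroup.ext_hom _ _ fun i => by simp [P, hp]
  have hP' : ∀ x, FreeGroup.lift g (P x) = FreeGroup.lift v x := fun x => DFunLike.congr_fun hP x
  refine exists_equiv _ g ?_ hg ?_
  · intro x hx
    simp only [Finset.mem_union, Finset.mem_image, Finset.mem_univ, true_and] at hx
    rcases hx with ⟨y, hy, rfl⟩ | ⟨b, rfl⟩
    · rw [hP', hv y hy]
    · rw [map_mul, map_inv, FreeGroup.lift_apply_of, hP', hq, mul_inv_cancel]
  · intro G _ w hw _
    obtain ⟨f, hf⟩ := huniv G (fun i => FreeGroup.lift w (p i)) (fun x hx => by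
      have := hw _ (Finset.mem_union_left _ (Finset.mem_image_of_mem P hx))
      rwa [show FreeGroup.lift w (P x) = ((FreeGroup.lift w).comp P) x from rfl,
        show (FreeGroup.lift w).comp P = FreeGroup.lift (fun i => FreeGroup.lift w (p i)) from
          FreeGroup.ext_hom _ _ fun i => by simp [P]] at this)
    refine ⟨f, fun b => ?_⟩
    have h2 := hw _ (Finset.mem_union_right _ (Finset.mem_image_of_mem _ (Finset.mem_univ b)))
    rw [map_mul, map_inv, FreeGroup.lift_apply_of, mul_inv_eq_one] at h2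
    rw [h2, ← hq b, show FreeGroup.lift w (P (q b)) = ((FreeGroup.lift w).comp P) (q b) from rfl,
      show (FreeGroup.lift w).comp P = f.comp (FreeGroup.lift v) from
        FreeGroup.ext_hom _ _ fun i => by simp [P, hf]]
    rfl

/-- Killing a normal subgroup generated by one element costs one relator. -/
theorem PresB.quotient {r : ℕ} (h : PresB T r) (N : Subgroup T) [N.Normal] (z : T) (hz : z ∈ N)
    (hN : N ≤ Subgroup.zpowers z) : PresB (T ⧸ N) (r + 1) := by
  classical
  obtain ⟨α, hα, R, v, hR, hv, hvgen, huniv⟩ := h.exists_data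
  obtain ⟨u, hu⟩ := exists_word v (t := z) (hvgen ▸ Subgroup.mem_top _)
  refine of_data (insert u R) ((Finset.card_insert_le _ _).trans (Nat.add_le_add_right hR 1))
    (fun i => QuotientGroup.mk' N (v i)) ?_ ?_ ?_
  · intro x hx
    rw [show FreeGroup.lift (fun i => QuotientGroup.mk' N (v i)) =
      (QuotientGroup.mk' N).comp (FreeGroup.lift v) from
        FreeGroup.ext_hom _ _ fun i => by simp, MonoidHom.comp_apply]
    rcases Finset.mem_insert.1 hx with h1 | h1
    · rw [h1, hu]; exact (QuotientGroup.eq_one_iff z).2 hz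
    · rw [hv x h1, map_one]
  · rw [show (Set.range fun i => QuotientGroup.mk' N (v i)) = QuotientGroup.mk' N '' Set.range v by
      rw [← Set.range_comp]; rfl, ← MonoidHom.map_closure, hvgen,
      Subgroup.map_top_of_surjective _ (QuotientGroup.mk'_surjective N)]
  · intro G _ w hw _
    obtain ⟨f, hf⟩ := huniv G w fun x hx => hw x (Finset.mem_insert_of_mem hx)
    have hfz : f z = 1 := by
      rw [← hu, show f (FreeGroup.lift v u) = (f.comp (FreeGroup.lift v)) u from rfl,
        show f.comp (FreeGroup.lift v) = FreeGroup.lift w from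
          FreeGroup.ext_hom _ _ fun i => by simp [hf]]
      exact hw u (Finset.mem_insert_self _ _)
    refine ⟨QuotientGroup.lift N f (hN.trans (Subgroup.zpowers_le.2 (MonoidHom.mem_ker.2 hfz))), fun i => ?_⟩
    exact hf i

/-- A presentation on two generators. -/
theorem PresB.two {r : ℕ} (h : PresB T r) (a b : T) (hab : Subgroup.closure ({a, b} : Set T) = ⊤) :
    ∃ S : Finset (FreeGroup (Fin 2)), S.card ≤ r + 2 ∧
      Nonempty (PresentedGroup (↑S : Set (FreeGroup (Fin 2))) ≃* T) := by
  obtain ⟨S, hS, e, -⟩ := h.exists_pres ![a, b] (by rwa [Matrix.range_cons, Matrix.range_cons,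
    Matrix.range_empty, Set.union_empty, Set.singleton_union])
  exact ⟨S, by simpa using hS, ⟨e⟩⟩

end Cfsg.Agent.BoundedPres
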