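import Mathlib

/-!
Carmichael's three-cycles through two fixed points and their relations.
-/

set_option autoImplicit false

namespace Cfsg.Agent.BoundedPres

open Equiv

set_option linter.unusedSectionVars false

variable {Ω : Type*} [DecidableEq Ω]

/-- The three-cycle `a → b → i → a`. -/
def cyc (a b i : Ω) : Perm Ω := swap a i * swap a b

/-- The group generated by the three-cycles indexed by `s`. -/
def Cs (a b : Ω) (s : Finset Ω) : Subgroup (Perm Ω) := Subgroup.closure (cyc a b '' (s : Set Ω))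

/-- The two special points are outside the index set. -/
structure Good (a b : Ω) (s : Finset Ω) : Prop where
  ne : a ≠ b
  ha : a ∉ s
  hb : b ∉ s

variable {a b : Ω} {s : Finset Ω}

theorem cyc_mem {i : Ω} (hi : i ∈ s) : cyc a b i ∈ Cs a b s :=
  Subgroup.subset_closure ⟨i, Finset.mem_coe.2 hi, rfl⟩

theorem Cs_mono {t : Finset Ω} (h : s ⊆ t) : Cs a b s ≤ Cs a b t :=
  Subgroup.closure_mono (Set.image_mono (Finset.coe_subset.2 h))

theorem Good.subset {t : Finset Ω} (h : Good a b t) (hst : s ⊆ t) : Good a b s :=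
  ⟨h.ne, fun e => h.ha (hst e), fun e => h.hb (hst e)⟩

theorem Good.ne_a (h : Good a b s) {i : Ω} (hi : i ∈ s) : i ≠ a := fun e => h.ha (e ▸ hi)

theorem Good.ne_b (h : Good a b s) {i : Ω} (hi : i ∈ s) : i ≠ b := fun e => h.hb (e ▸ hi)

theorem cyc_a (hab : a ≠ b) {i : Ω} (hib : i ≠ b) : cyc a b i a = b := by
  rw [cyc, Perm.mul_apply, swap_apply_left, swap_apply_of_ne_of_ne hab.symm hib.symm]

theorem cyc_b {i : Ω} : cyc a b i b = i := by
  rw [cyc, Perm.mul_apply, swap_apply_right, swap_apply_left]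

theorem cyc_i {i : Ω} (hia : i ≠ a) (hib : i ≠ b) : cyc a b i i = a := by
  rw [cyc, Perm.mul_apply, swap_apply_of_ne_of_ne hia hib, swap_apply_right]

theorem cyc_fix {i k : Ω} (hka : k ≠ a) (hkb : k ≠ b) (hki : k ≠ i) : cyc a b i k = k := by
  rw [cyc, Perm.mul_apply, swap_apply_of_ne_of_ne hka hkb, swap_apply_of_ne_of_ne hka hki]

theorem cyc_inv (i : Ω) : (cyc a b i)⁻¹ = swap a b * swap a i := by
  rw [cyc, _root_.mul_inv_rev, swap_inv, swap_inv]

theorem cyc_cube (hab : a ≠ b) {i : Ω} (hia : i ≠ a) (hib : i ≠ b) : cyc a b i ^ 3 = 1 := by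
  refine Equiv.ext fun k => ?_
  simp only [pow_succ, pow_zero, one_mul, Perm.mul_apply, Perm.one_apply]
  by_cases h1 : k = a
  · rw [h1, cyc_a hab hib, cyc_b, cyc_i hia hib]
  by_cases h2 : k = b
  · rw [h2, cyc_b, cyc_i hia hib, cyc_a hab hib]
  by_cases h3 : k = i
  · rw [h3, cyc_i hia hib, cyc_a hab hib, cyc_b]
  rw [cyc_fix h1 h2 h3, cyc_fix h1 h2 h3, cyc_fix h1 h2 h3]

theorem cyc_pair (hab : a ≠ b) {i j : Ω} (hia : i ≠ a) (hib : i ≠ b) (hja : j ≠ a) (hjb : j ≠ b)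
    (hij : i ≠ j) : (cyc a b i * cyc a b j) ^ 2 = 1 := by
  refine Equiv.ext fun k => ?_
  simp only [pow_two, Perm.mul_apply, Perm.one_apply]
  by_cases h1 : k = a
  · rw [h1, cyc_a hab hjb, cyc_b, cyc_fix hia hib hij, cyc_i hia hib]
  by_cases h2 : k = b
  · rw [h2, cyc_b, cyc_fix hja hjb hij.symm, cyc_i hja hjb, cyc_a hab hib]
  by_cases h3 : k = i
  · rw [h3, cyc_fix hia hib hij, cyc_i hia hib, cyc_a hab hjb, cyc_b]
  by_cases h4 : k = j
  · rw [h4, cyc_i hja hjb, cyc_a hab hib, cyc_b, cyc_fix hja hjb hij.symm]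
  rw [cyc_fix h1 h2 h4, cyc_fix h1 h2 h3, cyc_fix h1 h2 h4, cyc_fix h1 h2 h3]

/-- Carmichael's relations. -/
structure CarRel {G : Type*} [Group G] (X : Ω → G) (s : Finset Ω) : Prop where
  cube : ∀ i ∈ s, X i ^ 3 = 1
  pair : ∀ i ∈ s, ∀ j ∈ s, i ≠ j → (X i * X j) ^ 2 = 1

theorem CarRel.subset {G : Type*} [Group G] {X : Ω → G} {t : Finset Ω} (h : CarRel X t)
    (hst : s ⊆ t) : CarRel X s :=
  ⟨fun i hi => h.cube i (hst hi), fun i hi j hj => h.pair i (hst hi) j (hst hj)⟩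

theorem carRel_cyc (hs : Good a b s) : CarRel (cyc a b) s :=
  ⟨fun _ hi => cyc_cube hs.ne (hs.ne_a hi) (hs.ne_b hi),
    fun _ hi _ hj => cyc_pair hs.ne (hs.ne_a hi) (hs.ne_b hi) (hs.ne_a hj) (hs.ne_b hj)⟩

section pairs

variable {G : Type*} [Group G] {x y : G}

theorem pair_symm (h : (x * y) ^ 2 = 1) : (y * x) ^ 2 = 1 := by
  calc (y * x) ^ 2 = x⁻¹ * (x * y) ^ 2 * x := by simp only [pow_two]; group
    _ = 1 := by rw [h, mul_one, inv_mul_cancel]

theorem pair_inv (h : (x * y) ^ 2 = 1) : (x⁻¹ * y⁻¹) ^ 2 = 1 := by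
  rw [← _root_.mul_inv_rev, inv_pow, pair_symm h, inv_one]

/-- Moving a generator across the first coset representative. -/
theorem pair_flip (h : (x * y) ^ 2 = 1) : x * y = y⁻¹ * x⁻¹ := by
  rw [← _root_.mul_inv_rev]
  exact eq_inv_of_mul_eq_one_left (by rw [← pow_two, h])

theorem pair_sandwich (h : (x * y) ^ 2 = 1) : x * y * x = y⁻¹ := by
  rw [pair_flip h, inv_mul_cancel_right]

theorem cube_inv (h : x ^ 3 = 1) : x⁻¹ = x * x :=
  inv_eq_of_mul_eq_one_right (by rw [← h]; simp only [pow_succ, pow_zero, one_mul, mul_assoc])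

end pairs

/-- Carmichael: the relations determine the group of three-cycles. -/
theorem car_ker {K : Type*} [Group K] (π : K →* Perm Ω) (Y : Ω → K) :
    ∀ s : Finset Ω, Good a b s → (∀ i ∈ s, π (Y i) = cyc a b i) → CarRel Y s →
      ∀ g ∈ Subgroup.closure (Y '' (s : Set Ω)), π g = 1 → g = 1 := by
  intro s
  induction s using Finset.induction_on with
  | empty =>
    intro _ _ _ g hg _
    rw [Finset.coe_empty, Set.image_empty, Subgroup.closure_empty, Subgroup.mem_bot] at hg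
    exact hg
  | @insert k s hk ih =>
    intro hs hπ hY g hg hg1
    have hss := Finset.subset_insert k s
    have hks := Finset.mem_insert_self k s
    set H := Subgroup.closure (Y '' (s : Set Ω)) with hH
    set x := Y k with hx
    have hYm : ∀ i ∈ s, Y i ∈ H := fun i hi =>
      Subgroup.subset_closure ⟨i, Finset.mem_coe.2 hi, rfl⟩
    have x3 : x ^ 3 = 1 := hY.cube k hks
    have hp : ∀ i ∈ s, (Y i * x) ^ 2 = 1 := fun i hi =>
      hY.pair i (hss hi) k hks fun e => hk (e ▸ hi)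
    let U : Set K := {g | ∃ h ∈ H, g = h ∨ g = h * x ∨ g = h * x⁻¹ ∨
      ∃ i ∈ s, g = h * (x⁻¹ * Y i)}
    have flip : ∀ i ∈ s, x * Y i = (Y i)⁻¹ * x⁻¹ := fun i hi => pair_flip (pair_symm (hp i hi))
    have flop : ∀ i ∈ s, x⁻¹ * Y i * Y i = Y i * x := fun i hi => by
      have e : (Y i)⁻¹ = Y i * Y i := cube_inv (hY.cube i (hss hi))
      calc x⁻¹ * Y i * Y i = x⁻¹ * (Y i)⁻¹ := by rw [mul_assoc, ← e]
        _ = Y i * x := (pair_flip (hp i hi)).symm
    have step : ∀ u ∈ U, ∀ j ∈ insert k s, u * Y j ∈ U := by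
      rintro u ⟨h, hh, hu⟩ j hj
      rcases Finset.mem_insert.1 hj with hj | hj
      · rw [hj, ← hx]
        rcases hu with rfl | rfl | rfl | ⟨i, hi, rfl⟩
        · exact ⟨u, hh, Or.inr (Or.inl rfl)⟩
        · exact ⟨h, hh, Or.inr (Or.inr (Or.inl (by rw [mul_assoc, ← cube_inv x3])))⟩
        · exact ⟨h, hh, Or.inl (inv_mul_cancel_right h x)⟩
        · refine ⟨h * (Y i)⁻¹, mul_mem hh (inv_mem (hYm i hi)), Or.inr (Or.inr (Or.inr ⟨i, hi, ?_⟩))⟩
          have e1 : Y i * x = x⁻¹ * (Y i)⁻¹ := pair_flip (hp i hi)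
          have e2 : x * Y i = (Y i)⁻¹ * x⁻¹ := flip i hi
          calc h * (x⁻¹ * Y i) * x = h * (x⁻¹ * x⁻¹ * (Y i)⁻¹) := by
                rw [mul_assoc x⁻¹ x⁻¹, ← e1]; group
            _ = h * (x * (Y i * Y i)) := by
                rw [show x⁻¹ * x⁻¹ = x by rw [← _root_.mul_inv_rev, ← cube_inv x3, inv_inv],
                  cube_inv (hY.cube i (hss hi))]
            _ = h * ((Y i)⁻¹ * x⁻¹ * Y i) := by rw [← e2]; group
            _ = h * (Y i)⁻¹ * (x⁻¹ * Y i) := by group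
      · have hjm := hYm j hj
        rcases hu with rfl | rfl | rfl | ⟨i, hi, rfl⟩
        · exact ⟨u * Y j, mul_mem hh hjm, Or.inl rfl⟩
        · exact ⟨h * (Y j)⁻¹, mul_mem hh (inv_mem hjm), Or.inr (Or.inr (Or.inl (by
            rw [mul_assoc, flip j hj, ← mul_assoc])))⟩
        · exact ⟨h, hh, Or.inr (Or.inr (Or.inr ⟨j, hj, mul_assoc _ _ _⟩))⟩
        · by_cases hij : i = j
          · rw [← hij]
            exact ⟨h * Y i, mul_mem hh (hYm i hi), Or.inr (Or.inl (by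
              rw [mul_assoc h, flop i hi, ← mul_assoc]))⟩
          · refine ⟨h * Y j * (Y i)⁻¹, mul_mem (mul_mem hh hjm) (inv_mem (hYm i hi)),
              Or.inr (Or.inr (Or.inr ⟨i, hi, ?_⟩))⟩
            have e1 : Y i * Y j = (Y j)⁻¹ * (Y i)⁻¹ :=
              pair_flip (hY.pair i (hss hi) j (hss hj) hij)
            calc h * (x⁻¹ * Y i) * Y j = h * (x⁻¹ * (Y j)⁻¹) * (Y i)⁻¹ := by
                  rw [mul_assoc h, mul_assoc x⁻¹, e1]; group
              _ = h * Y j * (x * (Y i)⁻¹) := by rw [← pair_flip (hp j hj)]; group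
              _ = h * Y j * (x * Y i * Y i) := by
                  rw [cube_inv (hY.cube i (hss hi)), mul_assoc x]
              _ = h * Y j * (Y i)⁻¹ * (x⁻¹ * Y i) := by
                  rw [flip i hi]
                  group
    have hKU : ∀ g ∈ Subgroup.closure (Y '' ((insert k s : Finset Ω) : Set Ω)), ∀ u ∈ U, u * g ∈ U := by
      intro g hg
      induction hg using Subgroup.closure_induction_right with
      | one => exact fun u hu => by rwa [mul_one]
      | mul_right g hg y hy ih2 =>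
        intro u hu
        obtain ⟨j, hj, rfl⟩ := hy
        rw [← mul_assoc]
        exact step _ (ih2 u hu) j (Finset.mem_coe.1 hj)
      | mul_inv_cancel g hg y hy ih2 =>
        intro u hu
        obtain ⟨j, hj, rfl⟩ := hy
        rw [← mul_assoc, cube_inv (hY.cube j (Finset.mem_coe.1 hj)), ← mul_assoc]
        exact step _ (step _ (ih2 u hu) j (Finset.mem_coe.1 hj)) j (Finset.mem_coe.1 hj)
    have h1U : (1 : K) ∈ U := ⟨1, one_mem _, Or.inl rfl⟩
    obtain ⟨h, hh, hu⟩ := one_mul g ▸ hKU g hg 1 h1U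
    have hka := hs.ne_a hks
    have hkb := hs.ne_b hks
    have hfix : π h k = k := by
      have hle : H ≤ (MulAction.stabilizer (Perm Ω) k).comap π := by
        rw [hH, Subgroup.closure_le]
        rintro _ ⟨i, hi, rfl⟩
        show π (Y i) k = k
        rw [hπ i (hss (Finset.mem_coe.1 hi))]
        exact cyc_fix hka hkb fun e => hk (e ▸ Finset.mem_coe.1 hi)
      exact hle hh
    have hfix' : π h⁻¹ k = k := by
      rw [map_inv]
      exact Perm.inv_eq_iff_eq.2 hfix.symm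
    have key : ∀ r, g = h * r → π r k = k := fun r e => by
      have : π r = π h⁻¹ := by
        rw [← one_mul (π r), ← map_one π, ← inv_mul_cancel h, map_mul, mul_assoc, ← map_mul, ← e, hg1,
          mul_one]
      rw [this]; exact hfix'
    rcases hu with e | e | e | ⟨i, hi, e⟩
    · subst e; exact ih (hs.subset hss) (fun i hi => hπ i (hss hi)) (hY.subset hss) g hh hg1
    · have := key _ e
      rw [hx, hπ k hks, cyc_i hka hkb] at this
      exact absurd this.symm hka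
    · have := key _ e
      rw [map_inv, hx, hπ k hks, Perm.inv_eq_iff_eq, cyc_i hka hkb] at this
      exact absurd this hka
    · have := key _ e
      rw [map_mul, map_inv, hx, hπ k hks, hπ i (hss hi), Perm.mul_apply,
        cyc_fix hka hkb (fun e2 => hk (e2 ▸ hi)), Perm.inv_eq_iff_eq, cyc_i hka hkb] at this
      exact absurd this hka

/-- The universal property. -/
theorem car_hom (hs : Good a b s) {G : Type*} [Group G] (X : Ω → G) (hX : CarRel X s) :
    ∃ f : Cs a b s →* G, ∀ i (hi : i ∈ s), f ⟨cyc a b i, cyc_mem hi⟩ = X i := by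
  let Y : Ω → Perm Ω × G := fun i => (cyc a b i, X i)
  have hY : CarRel Y s := ⟨fun i hi => Prod.ext ((carRel_cyc hs).cube i hi) (hX.cube i hi),
    fun i hi j hj hij => Prod.ext ((carRel_cyc hs).pair i hi j hj hij) (hX.pair i hi j hj hij)⟩
  set H := Subgroup.closure (Y '' (s : Set Ω)) with hH
  have hmap : H.map (MonoidHom.fst (Perm Ω) G) = Cs a b s := by
    rw [hH, MonoidHom.map_closure, ← Set.image_comp]; rfl
  let φ : H →* Cs a b s :=
    ((MonoidHom.fst (Perm Ω) G).comp H.subtype).codRestrict _ fun h => hmap ▸ ⟨h.1, h.2, rfl⟩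
  have hφ : Function.Bijective φ := by
    refine ⟨(injective_iff_map_eq_one φ).2 fun h h1 => Subtype.ext
      (car_ker (MonoidHom.fst _ _) Y s hs (fun _ _ => rfl) hY h.1 h.2 (congrArg Subtype.val h1)), ?_⟩
    rintro ⟨σ, hσ⟩
    rw [← hmap] at hσ
    obtain ⟨y, hy, rfl⟩ := hσ
    exact ⟨⟨y, hy⟩, rfl⟩
  refine ⟨(MonoidHom.snd (Perm Ω) G).comp (H.subtype.comp (MulEquiv.ofBijective φ hφ).symm.toMonoidHom),
    fun i hi => ?_⟩
  have : (MulEquiv.ofBijective φ hφ).symm ⟨cyc a b i, cyc_mem hi⟩ =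
      ⟨Y i, Subgroup.subset_closure ⟨i, Finset.mem_coe.2 hi, rfl⟩⟩ :=
    (MulEquiv.symm_apply_eq _).2 rfl
  show (((MulEquiv.ofBijective φ hφ).symm ⟨cyc a b i, cyc_mem hi⟩ : H) : Perm Ω × G).2 = X i
  rw [this]

/-- Two homomorphisms agree when they agree on the three-cycles. -/
theorem hom_ext {G : Type*} [Group G] {f g : Cs a b s →* G}
    (h : ∀ i (hi : i ∈ s), f ⟨cyc a b i, cyc_mem hi⟩ = g ⟨cyc a b i, cyc_mem hi⟩) : f = g := by
  refine MonoidHom.ext fun x => ?_
  obtain ⟨x, hx⟩ := x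
  refine Subgroup.closure_induction (p := fun y hy => f ⟨y, hy⟩ = g ⟨y, hy⟩) ?_ ?_ ?_ ?_ hx
  · rintro _ ⟨i, hi, rfl⟩; exact h i (Finset.mem_coe.1 hi)
  · exact (map_one f).trans (map_one g).symm
  · intro y z hy hz e1 e2
    calc f ⟨y * z, mul_mem hy hz⟩ = f ⟨y, hy⟩ * f ⟨z, hz⟩ := map_mul f ⟨y, hy⟩ ⟨z, hz⟩
      _ = g ⟨y, hy⟩ * g ⟨z, hz⟩ := by rw [e1, e2]
      _ = _ := (map_mul g ⟨y, hy⟩ ⟨z, hz⟩).symm
  · intro y hy e1
    calc f ⟨y⁻¹, inv_mem hy⟩ = (f ⟨y, hy⟩)⁻¹ := map_inv f ⟨y, hy⟩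
      _ = (g ⟨y, hy⟩)⁻¹ := by rw [e1]
      _ = _ := (map_inv g ⟨y, hy⟩).symm

end Cfsg.Agent.BoundedPres
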