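import Cfsg.Agent.Lib.BoundedPres.Base

/-!
Gluing two groups of three-cycles, and bounded presentations of all alternating groups.
-/

set_option autoImplicit false
set_option linter.unusedSectionVars false
set_option linter.unusedSimpArgs false
set_option linter.style.haveILetI false

namespace Cfsg.Agent.BoundedPres

open Equiv
open scoped commutatorElement

section pw

variable {G : Type*} [Group G]

/-- The signed power. -/
def pw (e : ℤˣ) (x : G) : G := if e = 1 then x else x⁻¹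

theorem pw_one (x : G) : pw 1 x = x := if_pos rfl

theorem pw_neg (x : G) : pw (-1) x = x⁻¹ := if_neg (show ¬((-1 : ℤˣ) = 1) by decide)

theorem pw_pw (e e' : ℤˣ) (x : G) : pw e (pw e' x) = pw (e * e') x := by
  rcases Int.units_eq_one_or e with rfl | rfl <;> rcases Int.units_eq_one_or e' with rfl | rfl <;>
    simp [pw_one, pw_neg]

theorem pw_conj (e : ℤˣ) (g x : G) : g * pw e x * g⁻¹ = pw e (g * x * g⁻¹) := by
  rcases Int.units_eq_one_or e with rfl | rfl <;> simp [pw_one, pw_neg, mul_assoc]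

theorem pw_map {H : Type*} [Group H] (f : G →* H) (e : ℤˣ) (x : G) : f (pw e x) = pw e (f x) := by
  rcases Int.units_eq_one_or e with rfl | rfl <;> simp [pw_one, pw_neg]

theorem pw_inj (e : ℤˣ) {x y : G} (h : pw e x = pw e y) : x = y := by
  rcases Int.units_eq_one_or e with rfl | rfl <;> simpa [pw_one, pw_neg] using h

theorem pw_pair (e : ℤˣ) {x y : G} (h : (pw e x * pw e y) ^ 2 = 1) : (x * y) ^ 2 = 1 := by
  rcases Int.units_eq_one_or e with rfl | rfl
  · simpa [pw_one] using h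
  · rw [pw_neg, pw_neg] at h; simpa using pair_inv h

/-- Extending a relation from generators to the whole group. -/
theorem sgn_extend {K : Type*} [Group K] (f : K →* G) (s : K →* ℤˣ) (x : G) (S : Set K)
    (hS : Subgroup.closure S = ⊤) (h : ∀ k ∈ S, f k * x * (f k)⁻¹ = pw (s k) x) (k : K) :
    f k * x * (f k)⁻¹ = pw (s k) x := by
  have hk : k ∈ Subgroup.closure S := hS ▸ Subgroup.mem_top k
  induction hk using Subgroup.closure_induction with
  | mem y hy => exact h y hy
  | one => rw [map_one, map_one, pw_one, one_mul, inv_one, mul_one]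
  | mul y z _ _ hy hz =>
    rw [map_mul, map_mul, show f y * f z * x * (f y * f z)⁻¹ = f y * (f z * x * (f z)⁻¹) * (f y)⁻¹ by
      group, hz, pw_conj, hy, pw_pw, mul_comm (s z)]
  | inv y _ hy =>
    have h1 : pw (s y) ((f y)⁻¹ * x * f y) = x := by
      have := pw_conj (s y) (f y)⁻¹ x
      rw [← hy, inv_inv, show (f y)⁻¹ * (f y * x * (f y)⁻¹) * f y = x by group] at this
      exact this.symm
    have h2 := congrArg (pw (s y)) h1
    rw [pw_pw, Int.units_mul_self, pw_one] at h2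
    rw [map_inv, map_inv, inv_inv, Int.units_inv_eq_self, h2]

theorem commute_extend {K K' : Type*} [Group K] [Group K'] (f : K →* G) (f' : K' →* G) (S : Set K)
    (S' : Set K') (hS : Subgroup.closure S = ⊤) (hS' : Subgroup.closure S' = ⊤)
    (h : ∀ k ∈ S, ∀ k' ∈ S', Commute (f k) (f' k')) (k : K) (k' : K') : Commute (f k) (f' k') := by
  have hk : k ∈ Subgroup.closure S := hS ▸ Subgroup.mem_top k
  have hk' : k' ∈ Subgroup.closure S' := hS' ▸ Subgroup.mem_top k'
  induction hk using Subgroup.closure_induction with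
  | mem y hy =>
    induction hk' using Subgroup.closure_induction with
    | mem z hz => exact h y hy z hz
    | one => rw [map_one]; exact Commute.one_right _
    | mul z z' _ _ h1 h2 => rw [map_mul]; exact h1.mul_right h2
    | inv z _ h1 => rw [map_inv]; exact h1.inv_right
  | one => rw [map_one]; exact Commute.one_left _
  | mul y y' _ _ h1 h2 => rw [map_mul]; exact h1.mul_left h2
  | inv y _ h1 => rw [map_inv]; exact h1.inv_left

end pw

variable {Ω : Type*} [DecidableEq Ω] [Fintype Ω] {a b : Ω} {S s : Finset Ω}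

theorem exists_one_point (t : Finset Ω) :
    ∃ t₀ : Finset Ω, t₀ ⊆ t ∧ t₀.card ≤ 1 ∧ (t.Nonempty → t₀.Nonempty) := by
  by_cases h : t.Nonempty
  · exact ⟨{h.choose}, Finset.singleton_subset_iff.2 h.choose_spec, le_of_eq (Finset.card_singleton _),
      fun _ => Finset.singleton_nonempty _⟩
  · exact ⟨∅, Finset.empty_subset _, Nat.zero_le _, fun h' => absurd h' h⟩

/-- The three-cycle as an element, or one. -/
def cel (a b : Ω) (s : Finset Ω) (i : Ω) : Cs a b s :=
  if h : i ∈ s then ⟨cyc a b i, cyc_mem h⟩ else 1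

theorem cel_val {i : Ω} (h : i ∈ s) : ((cel a b s i : Cs a b s) : Perm Ω) = cyc a b i := by
  rw [cel, dif_pos h]

theorem kapC_cel (hS : Good a b S) (hs : Good a b s) (hSs : S ⊆ s) (π : Perm {x // x ∈ S}) {i j : Ω}
    (hi : i ∈ s) (hj : j ∈ s) (hij : kap hS π i = j) :
    kapC hS hSs π * cel a b s i * (kapC hS hSs π)⁻¹ = pw (Perm.sign π) (cel a b s j) := by
  subst hij
  refine Subtype.ext ?_
  rw [show ((pw (Perm.sign π) (cel a b s (kap hS π i)) : Cs a b s) : Perm Ω) =
    pw (Perm.sign π) ((cel a b s (kap hS π i) : Cs a b s) : Perm Ω) from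
      pw_map (Cs a b s).subtype _ _]
  rw [Subgroup.coe_mul, Subgroup.coe_mul, Subgroup.coe_inv, cel_val hi, cel_val hj, kapC_val]
  exact kap_conj hS π (hs.ne_a hi) (hs.ne_b hi)

theorem kapC_swap {K : Finset Ω} (hK : Good a b K) {x y : Ω} (hx : x ∈ K) (hy : y ∈ K) :
    kap hK (swap (⟨x, hx⟩ : {z // z ∈ K}) ⟨y, hy⟩) x = y :=
  (kap_coe hK _ ⟨x, hx⟩).trans (by rw [swap_apply_left])

set_option maxHeartbeats 1000000 in
/-- Gluing. -/
theorem presB_glue (sA sB : Finset Ω) (hs : Good a b (sA ∪ sB)) {rA rB : ℕ}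
    (hA : PresB (Cs a b sA) rA) (hB : PresB (Cs a b sB) rB) :
    PresB (Cs a b (sA ∪ sB)) (rA + rB + 12) := by
  classical
  have hsA := hs.subset (Finset.subset_union_left (s₂ := sB))
  have hsB := hs.subset (Finset.subset_union_right (s₁ := sA))
  have hGA := hsA.subset (Finset.sdiff_subset (s := sA) (t := sB))
  have hGB := hsB.subset (Finset.sdiff_subset (s := sB) (t := sA))
  have hGO := hsA.subset (Finset.inter_subset_left (s₁ := sA) (s₂ := sB))
  let ιA : Cs a b sA →* Cs a b (sA ∪ sB) := Subgroup.inclusion (Cs_mono Finset.subset_union_left)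
  let ιB : Cs a b sB →* Cs a b (sA ∪ sB) := Subgroup.inclusion (Cs_mono Finset.subset_union_right)
  obtain ⟨α, hα, RA, vA, hRA, hvA, hgenA, huA⟩ := hA.exists_data
  obtain ⟨β, hβ, RB, vB, hRB, hvB, hgenB, huB⟩ := hB.exists_data
  choose preA hpreA using fun g => exists_word vA (t := g) (hgenA ▸ Subgroup.mem_top g)
  choose preB hpreB using fun g => exists_word vB (t := g) (hgenB ▸ Subgroup.mem_top g)
  let WA : Cs a b sA → FreeGroup (α ⊕ β) := fun g => FreeGroup.map Sum.inl (preA g)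
  let WB : Cs a b sB → FreeGroup (α ⊕ β) := fun g => FreeGroup.map Sum.inr (preB g)
  obtain ⟨GA, hGA2, hGAg⟩ := exists_perm_gens {x // x ∈ sA \ sB}
  obtain ⟨GB, hGB2, hGBg⟩ := exists_perm_gens {x // x ∈ sB \ sA}
  obtain ⟨GO, hGO2, hGOg⟩ := exists_perm_gens {x // x ∈ sA ∩ sB}
  obtain ⟨IA, hIAs, hIA1, hIAne⟩ := exists_one_point (sA \ sB)
  obtain ⟨IB, hIBs, hIB1, hIBne⟩ := exists_one_point (sB \ sA)
  obtain ⟨IO, hIOs, hIO1, hIOne⟩ := exists_one_point (sA ∩ sB)
  let kA := kapC hGA (Finset.sdiff_subset (s := sA) (t := sB))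
  let kB := kapC hGB (Finset.sdiff_subset (s := sB) (t := sA))
  let oA := kapC hGO (Finset.inter_subset_left (s₁ := sA) (s₂ := sB))
  let oB := kapC hGO (Finset.inter_subset_right (s₁ := sA) (s₂ := sB))
  let R1 := IO.image fun i => WA (cel a b sA i) * (WB (cel a b sB i))⁻¹
  let R2 := GO.image fun π => WA (oA π) * (WB (oB π))⁻¹
  let R3 := (GA ×ˢ GB).image fun q => ⁅WA (kA q.1), WB (kB q.2)⁆
  let R4 := (GA ×ˢ IB).image fun q => WA (kA q.1) * WB (cel a b sB q.2) * (WA (kA q.1))⁻¹ *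
    (pw (Perm.sign q.1) (WB (cel a b sB q.2)))⁻¹
  let R5 := (GB ×ˢ IA).image fun q => WB (kB q.1) * WA (cel a b sA q.2) * (WB (kB q.1))⁻¹ *
    (pw (Perm.sign q.1) (WA (cel a b sA q.2)))⁻¹
  let R6 := (IA ×ˢ IB).image fun q => (WA (cel a b sA q.1) * WB (cel a b sB q.2)) ^ 2
  let R := RA.image (FreeGroup.map Sum.inl) ∪ RB.image (FreeGroup.map Sum.inr) ∪
    (R1 ∪ R2 ∪ R3 ∪ R4 ∪ R5 ∪ R6)
  have hcard : R.card ≤ rA + rB + 12 := by
    refine (Finset.card_union_le _ _).trans (Nat.add_le_add ?_ ?_)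
    · exact (Finset.card_union_le _ _).trans
        (Nat.add_le_add (Finset.card_image_le.trans hRA) (Finset.card_image_le.trans hRB))
    have h1 : R1.card ≤ 1 := Finset.card_image_le.trans hIO1
    have h2 : R2.card ≤ 2 := Finset.card_image_le.trans hGO2
    have h3 : R3.card ≤ 4 := Finset.card_image_le.trans (by
      rw [Finset.card_product]; exact Nat.mul_le_mul hGA2 hGB2)
    have h4 : R4.card ≤ 2 := Finset.card_image_le.trans (by
      rw [Finset.card_product]; exact Nat.mul_le_mul hGA2 hIB1)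
    have h5 : R5.card ≤ 2 := Finset.card_image_le.trans (by
      rw [Finset.card_product]; exact Nat.mul_le_mul hGB2 hIA1)
    have h6 : R6.card ≤ 1 := Finset.card_image_le.trans (by
      rw [Finset.card_product]; exact Nat.mul_le_mul hIA1 hIB1)
    have := Finset.card_union_le (R1 ∪ R2 ∪ R3 ∪ R4 ∪ R5) R6
    have := Finset.card_union_le (R1 ∪ R2 ∪ R3 ∪ R4) R5
    have := Finset.card_union_le (R1 ∪ R2 ∪ R3) R4
    have := Finset.card_union_le (R1 ∪ R2) R3
    have := Finset.card_union_le R1 R2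
    omega
  let v : α ⊕ β → Cs a b (sA ∪ sB) := Sum.elim (ιA ∘ vA) (ιB ∘ vB)
  have hlA : (FreeGroup.lift v).comp (FreeGroup.map Sum.inl) = ιA.comp (FreeGroup.lift vA) :=
    FreeGroup.ext_hom _ _ fun i => by simp [v]
  have hlB : (FreeGroup.lift v).comp (FreeGroup.map Sum.inr) = ιB.comp (FreeGroup.lift vB) :=
    FreeGroup.ext_hom _ _ fun i => by simp [v]
  have hWA : ∀ g, FreeGroup.lift v (WA g) = ιA g := fun g => by
    refine (DFunLike.congr_fun hlA (preA g)).trans ?_
    rw [MonoidHom.comp_apply, hpreA]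
  have hWB : ∀ g, FreeGroup.lift v (WB g) = ιB g := fun g => by
    refine (DFunLike.congr_fun hlB (preB g)).trans ?_
    rw [MonoidHom.comp_apply, hpreB]
  have vA' : ∀ g : Cs a b sA, ((ιA g : Cs a b (sA ∪ sB)) : Perm Ω) = g := fun g => rfl
  have vB' : ∀ g : Cs a b sB, ((ιB g : Cs a b (sA ∪ sB)) : Perm Ω) = g := fun g => rfl
  refine of_data R hcard v ?_ ?_ ?_
  · intro x hx
    simp only [R, R1, R2, R3, R4, R5, R6, Finset.mem_union, Finset.mem_image, Finset.mem_product,
      Prod.exists] at hx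
    rcases hx with (⟨y, hy, rfl⟩ | ⟨y, hy, rfl⟩) |
      (((((⟨i, hi, rfl⟩ | ⟨π, hπ, rfl⟩) | ⟨π, σ, hq, rfl⟩) | ⟨π, j, hq, rfl⟩) | ⟨σ, i, hq, rfl⟩) |
        ⟨i, j, hq, rfl⟩)
    · rw [show FreeGroup.lift v (FreeGroup.map Sum.inl y) = ιA (FreeGroup.lift vA y) from
        DFunLike.congr_fun hlA y, hvA y hy, map_one]
    · rw [show FreeGroup.lift v (FreeGroup.map Sum.inr y) = ιB (FreeGroup.lift vB y) from
        DFunLike.congr_fun hlB y, hvB y hy, map_one]
    · rw [map_mul, map_inv, hWA, hWB, mul_inv_eq_one]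
      have h := Finset.mem_inter.1 (hIOs hi)
      exact Subtype.ext (by rw [vA', vB', cel_val h.1, cel_val h.2])
    · rw [map_mul, map_inv, hWA, hWB, mul_inv_eq_one]
      exact Subtype.ext rfl
    · rw [map_commutatorElement, hWA, hWB]
      refine commutatorElement_eq_one_iff_commute.2 (Subtype.ext ?_)
      show kap hGA π * kap hGB σ = kap hGB σ * kap hGA π
      have hd : ∀ x, x ∈ sA \ sB → x ∉ sB \ sA := fun x hx hx' =>
        (Finset.mem_sdiff.1 hx').2 (Finset.mem_sdiff.1 hx).1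
      rw [kap_apply, kap_apply]
      have e1 : Commute (Perm.ofSubtype π : Perm Ω) (Perm.ofSubtype σ) := by
        refine Perm.Disjoint.commute fun x => ?_
        by_cases hx : x ∈ sA \ sB
        · exact Or.inr (Perm.ofSubtype_apply_of_not_mem σ (hd x hx))
        · exact Or.inl (Perm.ofSubtype_apply_of_not_mem π hx)
      have e2 := commute_flipPow hGA π (Perm.sign σ)
      have e3 := (commute_flipPow hGB σ (Perm.sign π)).symm
      have e4 : Commute (flipPow a b (Perm.sign π)) (flipPow a b (Perm.sign σ)) :=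
        (Commute.all (Perm.sign π) (Perm.sign σ)).map (flipPow a b)
      exact ((e1.mul_right e2).mul_left (e3.mul_right e4)).eq
    · obtain ⟨-, hj⟩ := hq
      have hj' := Finset.mem_sdiff.1 (hIBs hj)
      rw [map_mul, map_mul, map_mul, map_inv, map_inv, pw_map, hWA, hWB, mul_inv_eq_one]
      have hk : kap hGA π j = j := kap_fix hGA π (hsB.ne_a hj'.1) (hsB.ne_b hj'.1)
        fun h => hj'.2 (Finset.mem_sdiff.1 h).1
      have hju : j ∈ sA ∪ sB := Finset.mem_union_right _ hj'.1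
      have := kapC_cel hGA hs (Finset.sdiff_subset.trans Finset.subset_union_left) π hju hju hk
      refine Subtype.ext ?_
      have h2 := congrArg Subtype.val this
      rw [show ((pw (Perm.sign π) (cel a b (sA ∪ sB) j) : Cs a b (sA ∪ sB)) : Perm Ω) =
        pw (Perm.sign π) ((cel a b (sA ∪ sB) j : Cs a b (sA ∪ sB)) : Perm Ω) from
          pw_map (Cs a b (sA ∪ sB)).subtype _ _, Subgroup.coe_mul, Subgroup.coe_mul, Subgroup.coe_inv,
        cel_val hju, kapC_val] at h2
      rw [show ((pw (Perm.sign π) (ιB (cel a b sB j)) : Cs a b (sA ∪ sB)) : Perm Ω) =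
        pw (Perm.sign π) ((ιB (cel a b sB j) : Cs a b (sA ∪ sB)) : Perm Ω) from
          pw_map (Cs a b (sA ∪ sB)).subtype _ _, Subgroup.coe_mul, Subgroup.coe_mul, Subgroup.coe_inv,
        vA', vB', cel_val hj'.1, kapC_val]
      exact h2
    · obtain ⟨-, hi⟩ := hq
      have hi' := Finset.mem_sdiff.1 (hIAs hi)
      rw [map_mul, map_mul, map_mul, map_inv, map_inv, pw_map, hWA, hWB, mul_inv_eq_one]
      have hk : kap hGB σ i = i := kap_fix hGB σ (hsA.ne_a hi'.1) (hsA.ne_b hi'.1)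
        fun h => hi'.2 (Finset.mem_sdiff.1 h).1
      have hiu : i ∈ sA ∪ sB := Finset.mem_union_left _ hi'.1
      have := kapC_cel hGB hs (Finset.sdiff_subset.trans Finset.subset_union_right) σ hiu hiu hk
      refine Subtype.ext ?_
      have h2 := congrArg Subtype.val this
      rw [show ((pw (Perm.sign σ) (cel a b (sA ∪ sB) i) : Cs a b (sA ∪ sB)) : Perm Ω) =
        pw (Perm.sign σ) ((cel a b (sA ∪ sB) i : Cs a b (sA ∪ sB)) : Perm Ω) from
          pw_map (Cs a b (sA ∪ sB)).subtype _ _, Subgroup.coe_mul, Subgroup.coe_mul, Subgroup.coe_inv,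
        cel_val hiu, kapC_val] at h2
      rw [show ((pw (Perm.sign σ) (ιA (cel a b sA i)) : Cs a b (sA ∪ sB)) : Perm Ω) =
        pw (Perm.sign σ) ((ιA (cel a b sA i) : Cs a b (sA ∪ sB)) : Perm Ω) from
          pw_map (Cs a b (sA ∪ sB)).subtype _ _, Subgroup.coe_mul, Subgroup.coe_mul, Subgroup.coe_inv,
        vA', vB', cel_val hi'.1, kapC_val]
      exact h2
    · obtain ⟨hi, hj⟩ := hq
      have hi' := Finset.mem_sdiff.1 (hIAs hi)
      have hj' := Finset.mem_sdiff.1 (hIBs hj)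
      rw [map_pow, map_mul, hWA, hWB]
      refine Subtype.ext ?_
      rw [SubmonoidClass.coe_pow, Subgroup.coe_mul, vA', vB', cel_val hi'.1, cel_val hj'.1]
      exact cyc_pair hs.ne (hsA.ne_a hi'.1) (hsA.ne_b hi'.1) (hsB.ne_a hj'.1) (hsB.ne_b hj'.1)
        fun e => hj'.2 (e ▸ hi'.1)
  · rw [eq_top_iff]
    rintro ⟨g, hg⟩ -
    have hle : Cs a b (sA ∪ sB) ≤
        (Subgroup.closure (Set.range v)).map (Cs a b (sA ∪ sB)).subtype := by
      refine (Subgroup.closure_le _).2 ?_
      rintro _ ⟨i, hi, rfl⟩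
      rcases Finset.mem_union.1 (Finset.mem_coe.1 hi) with h | h
      · exact ⟨ιA (cel a b sA i), hWA (cel a b sA i) ▸ lift_mem_closure v _,
          (vA' _).trans (cel_val h)⟩
      · exact ⟨ιB (cel a b sB i), hWB (cel a b sB i) ▸ lift_mem_closure v _,
          (vB' _).trans (cel_val h)⟩
    obtain ⟨y, hy, hyg⟩ := hle hg
    obtain rfl : y = ⟨g, hg⟩ := Subtype.ext hyg
    exact hy
  · intro G _ w hw _
    have hRA' : ∀ x ∈ RA, FreeGroup.lift (w ∘ Sum.inl) x = 1 := fun x hx => by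
      rw [← hw _ (Finset.mem_union_left _ (Finset.mem_union_left _ (Finset.mem_image_of_mem _ hx)))]
      exact DFunLike.congr_fun (f := FreeGroup.lift (w ∘ Sum.inl))
        (g := (FreeGroup.lift w).comp (FreeGroup.map Sum.inl)) (FreeGroup.ext_hom _ _ fun i => by simp) x
    have hRB' : ∀ x ∈ RB, FreeGroup.lift (w ∘ Sum.inr) x = 1 := fun x hx => by
      rw [← hw _ (Finset.mem_union_left _ (Finset.mem_union_right _ (Finset.mem_image_of_mem _ hx)))]
      exact DFunLike.congr_fun (f := FreeGroup.lift (w ∘ Sum.inr))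
        (g := (FreeGroup.lift w).comp (FreeGroup.map Sum.inr)) (FreeGroup.ext_hom _ _ fun i => by simp) x
    obtain ⟨φA, hφA⟩ := huA G (w ∘ Sum.inl) hRA'
    obtain ⟨φB, hφB⟩ := huB G (w ∘ Sum.inr) hRB'
    have hwA : ∀ g, FreeGroup.lift w (WA g) = φA g := fun g => by
      refine (DFunLike.congr_fun (f := (FreeGroup.lift w).comp (FreeGroup.map Sum.inl))
        (g := φA.comp (FreeGroup.lift vA)) (FreeGroup.ext_hom _ _ fun i => by simp [hφA]) (preA g)).trans ?_
      rw [MonoidHom.comp_apply, hpreA]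
    have hwB : ∀ g, FreeGroup.lift w (WB g) = φB g := fun g => by
      refine (DFunLike.congr_fun (f := (FreeGroup.lift w).comp (FreeGroup.map Sum.inr))
        (g := φB.comp (FreeGroup.lift vB)) (FreeGroup.ext_hom _ _ fun i => by simp [hφB]) (preB g)).trans ?_
      rw [MonoidHom.comp_apply, hpreB]
    have hR' : ∀ x ∈ R1 ∪ R2 ∪ R3 ∪ R4 ∪ R5 ∪ R6, FreeGroup.lift w x = 1 := fun x hx =>
      hw x (Finset.mem_union_right _ hx)
    simp only [R1, R2, R3, R4, R5, R6, Finset.mem_union, or_imp, forall_and, Finset.forall_mem_image,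
      Finset.mem_product, Prod.forall, and_imp, map_mul, map_inv, map_pow, map_commutatorElement, pw_map,
      hwA, hwB, mul_inv_eq_one] at hR'
    obtain ⟨⟨⟨⟨⟨l1, l2⟩, l3⟩, l4⟩, l5⟩, l6⟩ := hR'
    -- the overlap
    have hO : φA.comp oA = φB.comp oB :=
      MonoidHom.eq_of_eqOn_dense hGOg fun π hπ => l2 (Finset.mem_coe.1 hπ)
    have hOc : ∀ i ∈ sA ∩ sB, φA (cel a b sA i) = φB (cel a b sB i) := by
      intro i hi
      obtain ⟨i₀, hi₀⟩ := hIOne ⟨i, hi⟩
      have hi₀' := hIOs hi₀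
      let π := swap (⟨i₀, hi₀'⟩ : {z // z ∈ sA ∩ sB}) ⟨i, hi⟩
      have hA1 := congrArg φA (kapC_cel hGO hsA Finset.inter_subset_left π (Finset.mem_inter.1 hi₀').1
        (Finset.mem_inter.1 hi).1 (kapC_swap hGO hi₀' hi))
      have hB1 := congrArg φB (kapC_cel hGO hsB Finset.inter_subset_right π (Finset.mem_inter.1 hi₀').2
        (Finset.mem_inter.1 hi).2 (kapC_swap hGO hi₀' hi))
      rw [map_mul, map_mul, map_inv, pw_map] at hA1 hB1
      have e0 : φA (oA π) = φB (oB π) := DFunLike.congr_fun hO π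
      simp only [oA, oB] at e0
      rw [e0, l1 hi₀, hB1] at hA1
      exact pw_inj _ hA1.symm
    have hcomm : ∀ π σ, Commute (φA (kA π)) (φB (kB σ)) := fun π σ =>
      commute_extend (φA.comp kA) (φB.comp kB) _ _ hGAg hGBg
        (fun k hk k' hk' => commutatorElement_eq_one_iff_commute.1
          (l3 k k' (Finset.mem_coe.1 hk) (Finset.mem_coe.1 hk'))) π σ
    have hAj : ∀ j ∈ IB, ∀ π, φA (kA π) * φB (cel a b sB j) * (φA (kA π))⁻¹ =
        pw (Perm.sign π) (φB (cel a b sB j)) := fun j hj π =>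
      sgn_extend (φA.comp kA) Perm.sign _ _ hGAg (fun k hk => l4 k j (Finset.mem_coe.1 hk) hj) π
    have hBi : ∀ i ∈ IA, ∀ σ, φB (kB σ) * φA (cel a b sA i) * (φB (kB σ))⁻¹ =
        pw (Perm.sign σ) (φA (cel a b sA i)) := fun i hi σ =>
      sgn_extend (φB.comp kB) Perm.sign _ _ hGBg (fun k hk => l5 k i (Finset.mem_coe.1 hk) hi) σ
    have hcross : ∀ i ∈ sA \ sB, ∀ j ∈ sB \ sA, (φA (cel a b sA i) * φB (cel a b sB j)) ^ 2 = 1 := by
      intro i hi j hj
      obtain ⟨i₀, hi₀⟩ := hIAne ⟨i, hi⟩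
      obtain ⟨j₀, hj₀⟩ := hIBne ⟨j, hj⟩
      let π := swap (⟨i₀, hIAs hi₀⟩ : {z // z ∈ sA \ sB}) ⟨i, hi⟩
      let σ := swap (⟨j₀, hIBs hj₀⟩ : {z // z ∈ sB \ sA}) ⟨j, hj⟩
      have ei := congrArg φA (kapC_cel hGA hsA Finset.sdiff_subset π (Finset.mem_sdiff.1 (hIAs hi₀)).1
        (Finset.mem_sdiff.1 hi).1 (kapC_swap hGA (hIAs hi₀) hi))
      have ej := congrArg φB (kapC_cel hGB hsB Finset.sdiff_subset σ (Finset.mem_sdiff.1 (hIBs hj₀)).1
        (Finset.mem_sdiff.1 hj).1 (kapC_swap hGB (hIBs hj₀) hj))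
      rw [map_mul, map_mul, map_inv, pw_map] at ei ej
      change φA (kA π) * _ * (φA (kA π))⁻¹ = _ at ei
      change φB (kB σ) * _ * (φB (kB σ))⁻¹ = _ at ej
      set g := φA (kA π) * φB (kB σ) with hg
      have c1 : g * φA (cel a b sA i₀) * g⁻¹ = pw (Perm.sign σ * Perm.sign π) (φA (cel a b sA i)) := by
        rw [show g * φA (cel a b sA i₀) * g⁻¹ = φA (kA π) *
          (φB (kB σ) * φA (cel a b sA i₀) * (φB (kB σ))⁻¹) * (φA (kA π))⁻¹ by rw [hg]; group,
          hBi i₀ hi₀ σ, pw_conj, ei, pw_pw]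
      have c2 : g * φB (cel a b sB j₀) * g⁻¹ = pw (Perm.sign σ * Perm.sign π) (φB (cel a b sB j)) := by
        rw [hg, (hcomm π σ).eq, show φB (kB σ) * φA (kA π) * φB (cel a b sB j₀) *
          (φB (kB σ) * φA (kA π))⁻¹ = φB (kB σ) *
          (φA (kA π) * φB (cel a b sB j₀) * (φA (kA π))⁻¹) * (φB (kB σ))⁻¹ by group,
          hAj j₀ hj₀ π, pw_conj, ej, pw_pw, mul_comm (Perm.sign π)]
      refine pw_pair (Perm.sign σ * Perm.sign π) ?_
      rw [← c1, ← c2, show g * φA (cel a b sA i₀) * g⁻¹ * (g * φB (cel a b sB j₀) * g⁻¹) =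
        g * (φA (cel a b sA i₀) * φB (cel a b sB j₀)) * g⁻¹ by group, conj_pow, l6 i₀ j₀ hi₀ hj₀,
        mul_one, mul_inv_cancel]
    -- the generators of the union
    let X : Ω → G := fun i => if i ∈ sA then φA (cel a b sA i) else φB (cel a b sB i)
    have hXA : ∀ i ∈ sA, X i = φA (cel a b sA i) := fun i hi => if_pos hi
    have hXB : ∀ i ∈ sB, X i = φB (cel a b sB i) := fun i hi => by
      by_cases h : i ∈ sA
      · rw [hXA i h]; exact hOc i (Finset.mem_inter.2 ⟨h, hi⟩)
      · exact if_neg h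
    have cA : ∀ i ∈ sA, cel a b sA i ^ 3 = 1 := fun i hi => Subtype.ext (by
      rw [SubmonoidClass.coe_pow, cel_val hi]; exact (carRel_cyc hsA).cube i hi)
    have cB : ∀ i ∈ sB, cel a b sB i ^ 3 = 1 := fun i hi => Subtype.ext (by
      rw [SubmonoidClass.coe_pow, cel_val hi]; exact (carRel_cyc hsB).cube i hi)
    have pA : ∀ i ∈ sA, ∀ j ∈ sA, i ≠ j → (cel a b sA i * cel a b sA j) ^ 2 = 1 :=
      fun i hi j hj hij => Subtype.ext (by
        rw [SubmonoidClass.coe_pow, Subgroup.coe_mul, cel_val hi, cel_val hj]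
        exact (carRel_cyc hsA).pair i hi j hj hij)
    have pB : ∀ i ∈ sB, ∀ j ∈ sB, i ≠ j → (cel a b sB i * cel a b sB j) ^ 2 = 1 :=
      fun i hi j hj hij => Subtype.ext (by
        rw [SubmonoidClass.coe_pow, Subgroup.coe_mul, cel_val hi, cel_val hj]
        exact (carRel_cyc hsB).pair i hi j hj hij)
    have hX : CarRel X (sA ∪ sB) := by
      refine ⟨fun i hi => ?_, fun i hi j hj hij => ?_⟩
      · rcases Finset.mem_union.1 hi with h | h
        · rw [hXA i h, ← map_pow, cA i h, map_one]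
        · rw [hXB i h, ← map_pow, cB i h, map_one]
      · by_cases hiA : i ∈ sA <;> by_cases hjA : j ∈ sA
        · rw [hXA i hiA, hXA j hjA, ← map_mul, ← map_pow, pA i hiA j hjA hij, map_one]
        · have hjB := (Finset.mem_union.1 hj).resolve_left hjA
          by_cases hiB : i ∈ sB
          · rw [hXB i hiB, hXB j hjB, ← map_mul, ← map_pow, pB i hiB j hjB hij, map_one]
          · rw [hXA i hiA, hXB j hjB]
            exact hcross i (Finset.mem_sdiff.2 ⟨hiA, hiB⟩) j (Finset.mem_sdiff.2 ⟨hjB, hjA⟩)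
        · have hiB := (Finset.mem_union.1 hi).resolve_left hiA
          by_cases hjB : j ∈ sB
          · rw [hXB i hiB, hXB j hjB, ← map_mul, ← map_pow, pB i hiB j hjB hij, map_one]
          · rw [hXB i hiB, hXA j hjA]
            exact pair_symm (hcross j (Finset.mem_sdiff.2 ⟨hjA, hjB⟩) i (Finset.mem_sdiff.2 ⟨hiB, hiA⟩))
        · have hiB := (Finset.mem_union.1 hi).resolve_left hiA
          have hjB := (Finset.mem_union.1 hj).resolve_left hjA
          rw [hXB i hiB, hXB j hjB, ← map_mul, ← map_pow, pB i hiB j hjB hij, map_one]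
    obtain ⟨f, hf⟩ := car_hom hs X hX
    have fA : f.comp ιA = φA := hom_ext fun i hi => by
      rw [MonoidHom.comp_apply, show ιA ⟨cyc a b i, cyc_mem hi⟩ =
        ⟨cyc a b i, cyc_mem (Finset.mem_union_left _ hi)⟩ from rfl, hf i (Finset.mem_union_left _ hi), hXA i hi]
      exact congrArg φA (Subtype.ext (cel_val hi))
    have fB : f.comp ιB = φB := hom_ext fun i hi => by
      rw [MonoidHom.comp_apply, show ιB ⟨cyc a b i, cyc_mem hi⟩ =
        ⟨cyc a b i, cyc_mem (Finset.mem_union_right _ hi)⟩ from rfl, hf i (Finset.mem_union_right _ hi), hXB i hi]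
      exact congrArg φB (Subtype.ext (cel_val hi))
    refine ⟨f, fun i => ?_⟩
    rcases i with i | i
    · exact (DFunLike.congr_fun fA (vA i)).trans (hφA i)
    · exact (DFunLike.congr_fun fB (vB i)).trans (hφB i)

/-- Alternating groups have presentations with at most 26 relations. -/
theorem presB_alternating (Ω : Type*) [Fintype Ω] [DecidableEq Ω] :
    PresB (alternatingGroup Ω) 26 := by
  classical
  by_cases hsmall : Fintype.card Ω ≤ 1
  · haveI := Fintype.card_le_one_iff_subsingleton.1 hsmall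
    exact of_data (α := Empty) ∅ (by simp) Empty.elim (by simp)
      (by rw [eq_top_iff]; intro x _; rw [Subsingleton.elim x 1]; exact one_mem _)
      (fun G _ w _ _ => ⟨1, fun i => i.elim⟩)
  obtain ⟨a, b, hab⟩ := Fintype.exists_pair_of_one_lt_card (by omega : 1 < Fintype.card Ω)
  let s : Finset Ω := Finset.univ \ {a, b}
  have hs : Good a b s := ⟨hab, by simp [s], by simp [s]⟩
  have hCs : Cs a b s = alternatingGroup Ω :=
    Cs_eq_alternating hs fun x hxa hxb => by simp [s, hxa, hxb]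
  refine PresB.congr ?_ (MulEquiv.subgroupCongr hCs)
  by_cases h2 : s.card ≤ 2
  · exact (presB_small hs).mono (by nlinarith)
  obtain ⟨p, hp, hpm, hm2, hp2⟩ : ∃ p, p.Prime ∧ p ≤ s.card ∧ s.card ≤ 2 * p ∧ p ≠ 2 := by
    by_cases h3 : s.card = 3
    · exact ⟨3, Nat.prime_three, by omega, by omega, by omega⟩
    · obtain ⟨p, hp, h1, h2'⟩ := Nat.exists_prime_lt_and_le_two_mul (s.card / 2) (by omega)
      exact ⟨p, hp, by omega, by omega, by omega⟩
  obtain ⟨sA, hsA, hA⟩ := Finset.exists_subset_card_eq hpm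
  have hc : (s \ sA).card ≤ p := by
    rw [Finset.card_sdiff_of_subset hsA]; omega
  obtain ⟨sB, hB1, hB2, hB⟩ := Finset.exists_subsuperset_card_eq Finset.sdiff_subset hc hpm
  have hu : sA ∪ sB = s := by
    refine Finset.Subset.antisymm (Finset.union_subset hsA hB2) fun x hx => ?_
    by_cases h : x ∈ sA
    · exact Finset.mem_union_left _ h
    · exact Finset.mem_union_right _ (hB1 (Finset.mem_sdiff.2 ⟨hx, h⟩))
  rw [← hu]
  exact presB_glue sA sB (hu ▸ hs) (presB_prime (hs.subset hsA) hp hp2 hA)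
    (presB_prime (hs.subset hB2) hp hp2 hB)

end Cfsg.Agent.BoundedPres
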