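import Cfsg.Agent.Lib.BoundedPres.SLn
import Cfsg.Agent.Lib.Classical.TwoGenSL

/-!
Every simple `PSLₙ(q)` has a presentation on two generators with at most eighty relations.
-/

set_option autoImplicit false
set_option linter.style.haveILetI false

namespace Cfsg.Agent.BoundedPres

open Matrix

variable {K : Type*} [Field K]

theorem exists_cycle (n : ℕ) :
    ∃ w : SpecialLinearGroup (Fin (n + 1)) K, TwoGenSL.IsCycle w := by
  let M : Matrix (Fin (n + 1)) (Fin (n + 1)) K :=
    Matrix.of (fun i j => if j.val = i.val + 1 then 1 else if i.val = n ∧ j.val = 0 then (-1) ^ n else 0)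
  have hM : M = Matrix.diagonal (fun i : Fin (n + 1) => if i.val = n then ((-1 : K)) ^ n else 1) *
      (finRotate (n + 1)).permMatrix K := by
    ext i j
    have hij : finRotate (n + 1) i = j ↔ j.val = if i.val = n then 0 else i.val + 1 := by
      rw [Fin.ext_iff]
      have : (finRotate (n + 1) i).val = if i.val = n then 0 else i.val + 1 := by
        rw [coe_finRotate]
        split_ifs with h1 h2 h3 <;> simp_all [Fin.ext_iff]
      rw [this]; exact eq_comm
    rw [Matrix.diagonal_mul, Equiv.Perm.permMatrix, PEquiv.toMatrix_apply]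
    simp only [M, Matrix.of_apply, Equiv.toPEquiv_apply, Option.mem_def, Option.some.injEq, hij]
    have := j.isLt
    split_ifs <;> simp_all
  have hdet : M.det = 1 := by
    rw [hM, Matrix.det_mul, Matrix.det_diagonal, Matrix.det_permutation, sign_finRotate]
    have : ∀ i : Fin (n + 1), (if i.val = n then ((-1 : K)) ^ n else 1) =
        if i = Fin.last n then (-1) ^ n else 1 := fun i => by simp [Fin.ext_iff]
    simp only [this, Finset.prod_ite_eq', Finset.mem_univ, if_true]
    push_cast
    rw [← mul_pow, neg_one_mul, neg_neg, one_pow]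
  exact ⟨⟨M, hdet⟩, rfl⟩

theorem sl_two_generated [Fintype K] {n : ℕ} (hn : 2 ≤ n) :
    ∃ a b : SpecialLinearGroup (Fin n) K, Subgroup.closure ({a, b} : Set (SpecialLinearGroup (Fin n) K)) = ⊤ := by
  obtain ⟨m, rfl⟩ : ∃ m, n = m + 1 := ⟨n - 1, by omega⟩
  obtain ⟨w, hw⟩ := exists_cycle (K := K) m
  have h01 : (0 : Fin (m + 1)) ≠ 1 := by
    intro e
    have := congrArg Fin.val e
    rw [Fin.val_one', Nat.mod_eq_of_lt (by omega)] at this
    simp at this
  let x := SpecialLinearGroup.transvection h01 (1 : K)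
  have hx : (x : Matrix (Fin (m + 1)) (Fin (m + 1)) K) = Matrix.transvection 0 1 1 := rfl
  by_cases hK : Fintype.card K ≤ 3
  · exact ⟨x, w, TwoGenSL.eq_top_small hK (by omega) hx hw
      (Subgroup.subset_closure (Set.mem_insert _ _))
      (Subgroup.subset_closure (Set.mem_insert_of_mem _ (Set.mem_singleton _)))⟩
  obtain ⟨k, hk⟩ := IsCyclic.exists_generator (α := Kˣ)
  let d : Fin (m + 1) → K := fun i => if i.val = 0 then (k : K) else if i.val = 1 then ((k⁻¹ : Kˣ) : K) else 1
  have hd : (Matrix.diagonal d).det = 1 := by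
    have v1 : (1 : Fin (m + 1)).val = 1 := by rw [Fin.val_one', Nat.mod_eq_of_lt (by omega)]
    have d0 : d 0 = k := if_pos rfl
    have d1 : d 1 = ((k⁻¹ : Kˣ) : K) := by
      show (if (1 : Fin (m + 1)).val = 0 then (k : K) else if (1 : Fin (m + 1)).val = 1 then ((k⁻¹ : Kˣ) : K) else 1) = _
      rw [v1, if_neg one_ne_zero, if_pos rfl]
    rw [Matrix.det_diagonal, Finset.prod_eq_mul (0 : Fin (m + 1)) 1 h01]
    · rw [d0, d1, Units.mul_inv]
    · intro c _ hc
      have h1 : c.val ≠ 0 := fun e => hc.1 (Fin.ext e)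
      have h2 : c.val ≠ 1 := fun e => hc.2 (Fin.ext (by rw [e, v1]))
      show (if c.val = 0 then (k : K) else if c.val = 1 then ((k⁻¹ : Kˣ) : K) else 1) = 1
      rw [if_neg h1, if_neg h2]
    · exact fun h => absurd (Finset.mem_univ _) h
    · exact fun h => absurd (Finset.mem_univ _) h
  exact ⟨⟨_, hd⟩, x * w, TwoGenSL.eq_top_big (by omega) (by omega) k hk rfl hx hw
    (Subgroup.subset_closure (Set.mem_insert _ _))
    (Subgroup.subset_closure (Set.mem_insert_of_mem _ (Set.mem_singleton _)))⟩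

theorem sl_bound [Fintype K] {n : ℕ} (hn : 2 ≤ n) : PresB (SpecialLinearGroup (Fin n) K) 68 := by
  rcases le_or_gt 4 n with h4 | h4
  · exact presB_sl h4
  interval_cases n
  · obtain ⟨⟨R, hR, ⟨e⟩⟩, -⟩ := SL2Pres.main (K := K)
    exact (of_presentation R hR e).mono (by norm_num)
  · obtain ⟨R, hR, ⟨e⟩⟩ := SLPres.Short.main (K := K)
    exact (of_presentation R hR e).mono (by norm_num)

theorem psl_presentation [Fintype K] (n : ℕ) (hn : 2 ≤ n) :
    ∃ rels : Finset (FreeGroup (Fin 2)), rels.card ≤ 80 ∧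
      Nonempty (PresentedGroup (↑rels : Set (FreeGroup (Fin 2))) ≃* ProjectiveSpecialLinearGroup (Fin n) K) := by
  classical
  let S := SpecialLinearGroup (Fin n) K
  have hS : PresB S 68 := sl_bound hn
  haveI : Nonempty (Fin n) := ⟨⟨0, by omega⟩⟩
  obtain ⟨z, hz⟩ : ∃ z : Subgroup.center S, ∀ x, x ∈ Subgroup.zpowers z := by
    haveI : IsCyclic (Subgroup.center S) :=
      isCyclic_of_surjective _ (SpecialLinearGroup.center_equiv_rootsOfUnity (n := Fin n) (R := K)).symm.surjective
    exact IsCyclic.exists_generator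
  have hN : Subgroup.center S ≤ Subgroup.zpowers (z : S) := fun x hx => by
    obtain ⟨k, hk⟩ := hz ⟨x, hx⟩
    exact ⟨k, congrArg Subtype.val hk⟩
  obtain ⟨a, b, hab⟩ := sl_two_generated (K := K) hn
  have hab' : Subgroup.closure ({QuotientGroup.mk' (Subgroup.center S) a, QuotientGroup.mk' _ b} :
      Set (S ⧸ Subgroup.center S)) = ⊤ := by
    rw [← Set.image_pair, ← MonoidHom.map_closure, hab,
      Subgroup.map_top_of_surjective _ (QuotientGroup.mk'_surjective _)]
  obtain ⟨R, hR, e⟩ := (hS.quotient (Subgroup.center S) z z.2 hN).two _ _ hab'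
  exact ⟨R, hR.trans (by norm_num), e⟩

end Cfsg.Agent.BoundedPres
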