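import Cfsg.Agent.Lib.SLPres.Main
import Cfsg.Agent.Lib.BoundedPres.Glue

/-!
Homomorphisms out of `SLₙ`, permutation matrices, and few generators of alternating groups.
-/

set_option autoImplicit false
set_option linter.unusedSectionVars false
set_option linter.unusedSimpArgs false
set_option linter.style.haveILetI false

namespace Cfsg.Agent.BoundedPres

open Matrix Equiv

variable {K : Type*} [Field K]

/-- A transvection of `SLₙ`, or one. -/
abbrev tv (n : ℕ) (i j : Fin n) (t : K) : SpecialLinearGroup (Fin n) K := (SLPres.slData n K).y i j t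

theorem sl_ext {n : ℕ} (hn : 2 ≤ n) {G : Type*} [Group G] {f g : SpecialLinearGroup (Fin n) K →* G}
    (h : ∀ i j, i ≠ j → ∀ t, f (tv n i j t) = g (tv n i j t)) : f = g := by
  haveI : Nontrivial (Fin n) := Fin.nontrivial_iff_two_le.2 hn
  refine MonoidHom.eq_of_eqOn_dense ClassicalSL.closure_elemTransvections ?_
  rintro _ ⟨i, j, hij, c, rfl⟩
  have := h i j hij c
  rwa [tv, SLPres.slData_y hij] at this

/-- A homomorphism from Steinberg data. -/
theorem sl_hom [Finite K] {n : ℕ} (hn : 3 ≤ n) {G : Type*} [Group G] (D : SLPres.Data n K G) :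
    ∃ f : SpecialLinearGroup (Fin n) K →* G, ∀ i j, i ≠ j → ∀ t, f (tv n i j t) = D.y i j t := by
  obtain ⟨r, rfl⟩ : ∃ r, n = r + 2 := ⟨n - 2, by omega⟩
  obtain ⟨π, hπ⟩ := SLPres.exists_toSL (r + 2) K
  let e := MulEquiv.ofBijective π (SLPres.toSL_bijective r (by omega) π hπ)
  obtain ⟨f, hf⟩ := SLPres.exists_hom_of_data D
  refine ⟨f.comp e.symm.toMonoidHom, fun i j hij t => ?_⟩
  show f (e.symm _) = _
  rw [tv, SLPres.slData_y hij,
    show e.symm (SpecialLinearGroup.transvection hij t) = PresentedGroup.of (⟨(i, j), hij⟩, t) from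
      e.symm_apply_eq.2 (hπ ⟨(i, j), hij⟩ t).symm]
  exact hf ⟨(i, j), hij⟩ t

/-- Pulling data back along an injection of the index set. -/
def comapData {n m : ℕ} {G : Type*} [Group G] (D : SLPres.Data n K G) (ι : Fin m → Fin n)
    (hι : Function.Injective ι) : SLPres.Data m K G where
  y i j t := D.y (ι i) (ι j) t
  add _ _ h t u := D.add (hι.ne h) t u
  comm _ _ _ _ hij hkl hil hjk t u := D.comm (hι.ne hij) (hι.ne hkl) (hι.ne hil) (hι.ne hjk) t u
  brac _ _ _ hij hjl hil t u := D.brac (hι.ne hij) (hι.ne hjl) (hι.ne hil) t u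

theorem sl2_ext {G : Type*} [Group G] {f g : SpecialLinearGroup (Fin 2) K →* G}
    (h1 : ∀ t, f (SL2Pres.up t) = g (SL2Pres.up t)) (h2 : ∀ t, f (SL2Pres.low t) = g (SL2Pres.low t)) :
    f = g := by
  refine sl_ext le_rfl fun i j hij t => ?_
  fin_cases i <;> fin_cases j <;> first | exact absurd rfl hij | skip
  · convert h1 t using 2 <;>
      (apply Subtype.ext; rw [tv, SLPres.slData_y (by decide), SpecialLinearGroup.transvection_coe];
       ext a b; fin_cases a <;> fin_cases b <;> simp [SL2Pres.up, Matrix.single_apply])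
  · convert h2 t using 2 <;>
      (apply Subtype.ext; rw [tv, SLPres.slData_y (by decide), SpecialLinearGroup.transvection_coe];
       ext a b; fin_cases a <;> fin_cases b <;> simp [SL2Pres.low, Matrix.single_apply])

/-- Even permutation matrices. -/
noncomputable def pm (n : ℕ) (K : Type*) [Field K] :
    alternatingGroup (Fin n) →* SpecialLinearGroup (Fin n) K where
  toFun σ := ⟨((σ : Perm (Fin n))⁻¹).permMatrix K, by
    rw [Matrix.det_permutation, Perm.sign_inv, Perm.mem_alternatingGroup.1 σ.2]; simp⟩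
  map_one' := Subtype.ext (by simp)
  map_mul' σ τ := Subtype.ext (by
    change ((σ : Perm (Fin n)) * τ)⁻¹.permMatrix K = _ * _
    rw [_root_.mul_inv_rev, Matrix.permMatrix_mul])

theorem pm_conj {n : ℕ} (σ : alternatingGroup (Fin n)) {i j : Fin n} (h : i ≠ j) (t : K) :
    pm n K σ * tv n i j t * (pm n K σ)⁻¹ = tv n ((σ : Perm (Fin n)) i) ((σ : Perm (Fin n)) j) t := by
  rw [mul_inv_eq_iff_eq_mul, tv, tv, SLPres.slData_y h, SLPres.slData_y ((σ : Perm (Fin n)).injective.ne h)]
  apply Subtype.ext
  change ((σ : Perm (Fin n))⁻¹).permMatrix K * _ = _ * ((σ : Perm (Fin n))⁻¹).permMatrix K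
  rw [SpecialLinearGroup.transvection_coe, SpecialLinearGroup.transvection_coe, Perm.permMatrix,
    PEquiv.toMatrix_toPEquiv_mul, PEquiv.mul_toMatrix_toPEquiv]
  ext a b
  simp [Matrix.single_apply, Matrix.one_apply, Perm.inv_def, Equiv.eq_symm_apply, Equiv.symm_apply_eq]

/-- An alternating group is generated by three elements. -/
theorem exists_alt_gens (α : Type*) [Fintype α] [DecidableEq α] :
    ∃ g : Finset (alternatingGroup α), g.card ≤ 3 ∧
      Subgroup.closure (g : Set (alternatingGroup α)) = ⊤ := by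
  classical
  obtain ⟨u₀, v₀, h₀⟩ := exists_perm_gen α
  -- make the second generator even
  obtain ⟨u, v, huv, hv⟩ : ∃ u v : Perm α, Subgroup.closure ({u, v} : Set (Perm α)) = ⊤ ∧
      Perm.sign v = 1 := by
    rcases Int.units_eq_one_or (Perm.sign v₀) with hv | hv
    · exact ⟨u₀, v₀, h₀, hv⟩
    rcases Int.units_eq_one_or (Perm.sign u₀) with hu | hu
    · exact ⟨v₀, u₀, by rw [Set.pair_comm]; exact h₀, hu⟩
    refine ⟨u₀, u₀ * v₀, ?_, by rw [map_mul, hu, hv]; rfl⟩
    rw [eq_top_iff, ← h₀, Subgroup.closure_le]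
    rintro x (hx | hx)
    · rw [hx]; exact Subgroup.subset_closure (Set.mem_insert _ _)
    · rw [Set.mem_singleton_iff] at hx
      have := mul_mem (inv_mem (Subgroup.subset_closure (Set.mem_insert u₀ {u₀ * v₀})))
        (Subgroup.subset_closure (Set.mem_insert_of_mem u₀ (Set.mem_singleton (u₀ * v₀))))
      rw [inv_mul_cancel_left] at this
      rw [hx]; exact this
  rcases Int.units_eq_one_or (Perm.sign u) with hu | hu
  · -- everything is even
    refine ⟨{⟨u, Perm.mem_alternatingGroup.2 hu⟩, ⟨v, Perm.mem_alternatingGroup.2 hv⟩}, Finset.card_le_two.trans (by norm_num), ?_⟩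
    refine Subgroup.map_injective (alternatingGroup α).subtype_injective ?_
    rw [MonoidHom.map_closure, Finset.coe_pair, Set.image_pair, ← MonoidHom.range_eq_map,
      Subgroup.range_subtype]
    refine le_antisymm ?_ ?_
    · rw [Subgroup.closure_le]
      rintro x (rfl | rfl)
      · exact Perm.mem_alternatingGroup.2 hu
      · exact Perm.mem_alternatingGroup.2 hv
    · show _ ≤ Subgroup.closure ({u, v} : Set (Perm α))
      rw [huv]; exact le_top
  let a₁ : alternatingGroup α := ⟨u * u, Perm.mem_alternatingGroup.2 (by rw [map_mul, hu]; rfl)⟩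
  let a₂ : alternatingGroup α := ⟨v, Perm.mem_alternatingGroup.2 hv⟩
  let a₃ : alternatingGroup α := ⟨u * v * u⁻¹, Perm.mem_alternatingGroup.2 (by simp [hu, hv])⟩
  refine ⟨{a₁, a₂, a₃}, Finset.card_le_three, ?_⟩
  refine Subgroup.map_injective (alternatingGroup α).subtype_injective ?_
  rw [MonoidHom.map_closure, ← MonoidHom.range_eq_map, Subgroup.range_subtype]
  simp only [Finset.coe_insert, Finset.coe_singleton, Set.image_insert_eq, Set.image_singleton]
  set D := Subgroup.closure ({u * u, v, u * v * u⁻¹} : Set (Perm α))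
  show D = alternatingGroup α
  have d1 : u * u ∈ D := Subgroup.subset_closure (by simp)
  have d2 : v ∈ D := Subgroup.subset_closure (by simp)
  have d3 : u * v * u⁻¹ ∈ D := Subgroup.subset_closure (by simp)
  have hconj : ∀ d ∈ D, u * d * u⁻¹ ∈ D := by
    intro d hd
    induction hd using Subgroup.closure_induction with
    | mem y hy =>
      rcases hy with rfl | rfl | rfl
      · rw [show u * (u * u) * u⁻¹ = u * u by group]; exact d1
      · exact d3
      · rw [show u * (u * v * u⁻¹) * u⁻¹ = (u * u) * v * (u * u)⁻¹ by group]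
        exact mul_mem (mul_mem d1 d2) (inv_mem d1)
    | one => rw [mul_one, mul_inv_cancel]; exact one_mem _
    | mul y z _ _ h1 h2 =>
      rw [show u * (y * z) * u⁻¹ = (u * y * u⁻¹) * (u * z * u⁻¹) by group]; exact mul_mem h1 h2
    | inv y _ h1 =>
      rw [show u * y⁻¹ * u⁻¹ = (u * y * u⁻¹)⁻¹ by group]; exact inv_mem h1
  have hall : ∀ x : Perm α, ∀ s, (s ∈ D ∨ u * s ∈ D) → (s * x ∈ D ∨ u * (s * x) ∈ D) := by
    intro x
    have hx : x ∈ Subgroup.closure ({u, v} : Set (Perm α)) := huv ▸ Subgroup.mem_top x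
    have hu' : ∀ s, (s ∈ D ∨ u * s ∈ D) → (s * u ∈ D ∨ u * (s * u) ∈ D) := by
      rintro s (h | h)
      · refine Or.inr ?_
        rw [show u * (s * u) = (u * s * u⁻¹) * (u * u) by group]
        exact mul_mem (hconj s h) d1
      · refine Or.inl ?_
        rw [show s * u = (u * u)⁻¹ * (u * (u * s) * u⁻¹) * (u * u) by group]
        exact mul_mem (mul_mem (inv_mem d1) (hconj _ h)) d1
    induction hx using Subgroup.closure_induction_right with
    | one => intro s hs; rwa [mul_one]
    | mul_right g _ y hy ih =>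
      intro s hs
      rw [← mul_assoc]
      rcases hy with rfl | rfl
      · exact hu' _ (ih s hs)
      · rcases ih s hs with h | h
        · exact Or.inl (mul_mem h d2)
        · exact Or.inr (by rw [← mul_assoc u]; exact mul_mem h d2)
    | mul_inv_cancel g _ y hy ih =>
      intro s hs
      rw [← mul_assoc]
      rcases hy with rfl | rfl
      · rcases hu' _ (ih s hs) with h | h
        · exact Or.inl (by
            rw [show s * g * y⁻¹ = s * g * y * (y * y)⁻¹ by group]; exact mul_mem h (inv_mem d1))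
        · exact Or.inr (by
            rw [show y * (s * g * y⁻¹) = y * (s * g * y) * (y * y)⁻¹ by group]
            exact mul_mem h (inv_mem d1))
      · rcases ih s hs with h | h
        · exact Or.inl (mul_mem h (inv_mem d2))
        · exact Or.inr (by rw [← mul_assoc u]; exact mul_mem h (inv_mem d2))
  have hle : D ≤ alternatingGroup α := by
    rw [Subgroup.closure_le]
    rintro x (rfl | rfl | rfl)
    · exact a₁.2
    · exact a₂.2
    · exact a₃.2
  refine le_antisymm hle fun x hx => ?_
  have h := hall x 1 (Or.inl (one_mem D))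
  rw [one_mul] at h
  rcases h with h | h
  · exact h
  · have := hle h
    rw [Perm.mem_alternatingGroup, map_mul, Perm.mem_alternatingGroup.1 hx, hu] at this
    exact absurd this (by decide)

end Cfsg.Agent.BoundedPres
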