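import Cfsg.Agent.Lib.BoundedPres.SLAux
import Cfsg.Agent.Lib.SLPres.ShortThreeMain
import Cfsg.Agent.Lib.SL2Pres.Main

/-!
`SLₙ(q)` has a presentation with a bounded number of relations, `n ≥ 4`.
-/

set_option autoImplicit false
set_option linter.unusedSectionVars false
set_option linter.unusedSimpArgs false
set_option linter.style.haveILetI false

namespace Cfsg.Agent.BoundedPres

open Equiv
open scoped commutatorElement

variable {K : Type*} [Field K]

theorem exists_gens_three [Finite K] :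
    ∃ g : Finset (Matrix.SpecialLinearGroup (Fin 3) K), g.card ≤ 4 ∧
      Subgroup.closure (g : Set (Matrix.SpecialLinearGroup (Fin 3) K)) = ⊤ := by
  classical
  obtain ⟨R, -, ⟨e⟩⟩ := SLPres.Short.main (K := K)
  refine ⟨Finset.univ.image fun i => e (PresentedGroup.of i),
    Finset.card_image_le.trans (le_of_eq (Fintype.card_fin 4)), ?_⟩
  rw [Finset.coe_image, Finset.coe_univ, Set.image_univ,
    show Set.range (fun i => e (PresentedGroup.of i)) =
      e.toMonoidHom '' Set.range (PresentedGroup.of (rels := (↑R : Set (FreeGroup (Fin 4))))) by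
      rw [← Set.range_comp]; rfl, ← MonoidHom.map_closure, PresentedGroup.closure_range_of,
    Subgroup.map_top_of_surjective _ e.surjective]

theorem exists_gens_two [Finite K] :
    ∃ g : Finset (Matrix.SpecialLinearGroup (Fin 2) K), g.card ≤ 3 ∧
      Subgroup.closure (g : Set (Matrix.SpecialLinearGroup (Fin 2) K)) = ⊤ := by
  classical
  haveI := Fintype.ofFinite K
  obtain ⟨⟨R, -, ⟨e⟩⟩, -⟩ := SL2Pres.main (K := K)
  refine ⟨Finset.univ.image fun i => e (PresentedGroup.of i),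
    Finset.card_image_le.trans (le_of_eq (Fintype.card_fin 3)), ?_⟩
  rw [Finset.coe_image, Finset.coe_univ, Set.image_univ,
    show Set.range (fun i => e (PresentedGroup.of i)) =
      e.toMonoidHom '' Set.range (PresentedGroup.of (rels := (↑R : Set (FreeGroup (Fin 3))))) by
      rw [← Set.range_comp]; rfl, ← MonoidHom.map_closure, PresentedGroup.closure_range_of,
    Subgroup.map_top_of_surjective _ e.surjective]

/-- A product of two transpositions. -/
def dswap {n : ℕ} {a b c d : Fin n} (hab : a ≠ b) (hcd : c ≠ d) : alternatingGroup (Fin n) :=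
  ⟨swap a b * swap c d, Perm.mem_alternatingGroup.2 (by
    rw [map_mul, Perm.sign_swap hab, Perm.sign_swap hcd]; rfl)⟩

/-- Extending finitely many values to an even permutation, up to the last exchange. -/
theorem exists_even {n m : ℕ} (x y : Fin m → Fin n) (hx : Function.Injective x)
    (hy : Function.Injective y) {p q : Fin m} (hpq : p ≠ q) :
    ∃ σ : alternatingGroup (Fin n), (∀ i, (σ : Perm (Fin n)) (x i) = y i) ∨
      ((σ : Perm (Fin n)) (x p) = y q ∧ (σ : Perm (Fin n)) (x q) = y p ∧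
        ∀ i, i ≠ p → i ≠ q → (σ : Perm (Fin n)) (x i) = y i) := by
  obtain ⟨τ, hτ⟩ := Equiv.Perm.exists_extending_pair x y hx hy
  rcases Int.units_eq_one_or (Perm.sign τ) with h | h
  · exact ⟨⟨τ, Perm.mem_alternatingGroup.2 h⟩, Or.inl hτ⟩
  · refine ⟨⟨τ * swap (x p) (x q), Perm.mem_alternatingGroup.2 (by
      rw [map_mul, h, Perm.sign_swap (hx.ne hpq)]; rfl)⟩, Or.inr ⟨?_, ?_, fun i hip hiq => ?_⟩⟩
    · show τ (swap (x p) (x q) (x p)) = _
      rw [swap_apply_left, hτ]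
    · show τ (swap (x p) (x q) (x q)) = _
      rw [swap_apply_right, hτ]
    · show τ (swap (x p) (x q) (x i)) = _
      rw [swap_apply_of_ne_of_ne (hx.ne hip) (hx.ne hiq), hτ]

variable {n : ℕ} (hn : 4 ≤ n)

/-- The first four indices. -/
def pt : Fin 4 → Fin n := Fin.castLE hn

theorem pt_inj : Function.Injective (pt hn) := Fin.castLE_injective hn

/-- The first three indices. -/
def e3 (a : Fin 3) : Fin n := pt hn a.castSucc

theorem e3_inj : Function.Injective (e3 hn) := (pt_inj hn).comp (Fin.castSucc_injective 3)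

/-- The cycle of the first three indices. -/
def c3 : alternatingGroup (Fin n) :=
  dswap ((pt_inj hn).ne (show (0 : Fin 4) ≠ 1 by decide)) ((pt_inj hn).ne (show (1 : Fin 4) ≠ 2 by decide))

/-- The exchange of the first two indices. -/
def ga : alternatingGroup (Fin n) :=
  dswap ((pt_inj hn).ne (show (0 : Fin 4) ≠ 1 by decide)) ((pt_inj hn).ne (show (2 : Fin 4) ≠ 3 by decide))

/-- The exchange of the two pairs. -/
def gb : alternatingGroup (Fin n) :=
  dswap ((pt_inj hn).ne (show (0 : Fin 4) ≠ 2 by decide)) ((pt_inj hn).ne (show (1 : Fin 4) ≠ 3 by decide))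

/-- The three-cycle on three letters. -/
def cp : Perm (Fin 3) := swap 0 1 * swap 1 2

theorem swp (a b x : Fin 4) : swap (pt hn a) (pt hn b) (pt hn x) = pt hn (swap a b x) :=
  (pt_inj hn).swap_apply _ _ _

theorem c3_e3 (a : Fin 3) : (c3 hn : Perm (Fin n)) (e3 hn a) = e3 hn (cp a) := by
  simp only [c3, dswap, Perm.mul_apply, e3, swp]
  exact congrArg (pt hn) (by revert a; decide)

theorem ga0 : (ga hn : Perm (Fin n)) (pt hn 0) = pt hn 1 := by
  simp only [ga, dswap, Perm.mul_apply, swp]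
  exact congrArg (pt hn) (by decide)

theorem ga1 : (ga hn : Perm (Fin n)) (pt hn 1) = pt hn 0 := by
  simp only [ga, dswap, Perm.mul_apply, swp]
  exact congrArg (pt hn) (by decide)

theorem gb0 : (gb hn : Perm (Fin n)) (pt hn 0) = pt hn 2 := by
  simp only [gb, dswap, Perm.mul_apply, swp]
  exact congrArg (pt hn) (by decide)

theorem gb1 : (gb hn : Perm (Fin n)) (pt hn 1) = pt hn 3 := by
  simp only [gb, dswap, Perm.mul_apply, swp]
  exact congrArg (pt hn) (by decide)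

theorem exists_pair_alt {i j : Fin n} (hij : i ≠ j) :
    ∃ τ : alternatingGroup (Fin n), (τ : Perm (Fin n)) (pt hn 0) = i ∧ (τ : Perm (Fin n)) (pt hn 1) = j := by
  have h01 : pt hn 0 ≠ pt hn 1 := (pt_inj hn).ne (by decide)
  obtain ⟨τ, hτ⟩ := Equiv.Perm.exists_extending_pair ![pt hn 0, pt hn 1] ![i, j]
    (by intro a b; fin_cases a <;> fin_cases b <;> simp [h01, h01.symm])
    (by intro a b; fin_cases a <;> fin_cases b <;> simp [hij, hij.symm])
  rcases Int.units_eq_one_or (Perm.sign τ) with h | h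
  · exact ⟨⟨τ, Perm.mem_alternatingGroup.2 h⟩, hτ 0, hτ 1⟩
  · refine ⟨⟨τ * swap (pt hn 2) (pt hn 3), Perm.mem_alternatingGroup.2 (by
      rw [map_mul, h, Perm.sign_swap ((pt_inj hn).ne (by decide))]; rfl)⟩, ?_, ?_⟩
    · show τ (swap (pt hn 2) (pt hn 3) (pt hn 0)) = i
      rw [swp, show swap (2 : Fin 4) 3 0 = 0 by decide]; exact hτ 0
    · show τ (swap (pt hn 2) (pt hn 3) (pt hn 1)) = j
      rw [swp, show swap (2 : Fin 4) 3 1 = 1 by decide]; exact hτ 1

theorem exists_triple {a b c : Fin n} (hab : a ≠ b) (hbc : b ≠ c) (hac : a ≠ c) :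
    ∃ (τ : alternatingGroup (Fin n)) (a' b' c' : Fin 3), a' ≠ b' ∧ b' ≠ c' ∧ a' ≠ c' ∧
      (τ : Perm (Fin n)) (e3 hn a') = a ∧ (τ : Perm (Fin n)) (e3 hn b') = b ∧
      (τ : Perm (Fin n)) (e3 hn c') = c := by
  obtain ⟨σ, hσ⟩ := exists_even (e3 hn) ![a, b, c] (e3_inj hn)
    (by intro u v; fin_cases u <;> fin_cases v <;> simp [hab, hab.symm, hbc, hbc.symm, hac, hac.symm])
    (show (0 : Fin 3) ≠ 1 by decide)
  rcases hσ with h | ⟨h0, h1, h2⟩
  · exact ⟨σ, 0, 1, 2, by decide, by decide, by decide, h 0, h 1, h 2⟩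
  · exact ⟨σ, 1, 0, 2, by decide, by decide, by decide, h1, h0, h2 2 (by decide) (by decide)⟩

/-- The even permutations fixing the first two indices. -/
def alt : alternatingGroup {x : Fin n // x ≠ pt hn 0 ∧ x ≠ pt hn 1} →* alternatingGroup (Fin n) :=
  ((Perm.ofSubtype).comp (alternatingGroup _).subtype).codRestrict _ fun σ =>
    Perm.mem_alternatingGroup.2 (by
      rw [MonoidHom.comp_apply, Perm.sign_ofSubtype]; exact Perm.mem_alternatingGroup.1 σ.2)

theorem alt_fix (τ : alternatingGroup {x : Fin n // x ≠ pt hn 0 ∧ x ≠ pt hn 1}) :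
    (alt hn τ : Perm (Fin n)) (pt hn 0) = pt hn 0 ∧ (alt hn τ : Perm (Fin n)) (pt hn 1) = pt hn 1 :=
  ⟨Perm.ofSubtype_apply_of_not_mem (τ : Perm {x : Fin n // x ≠ pt hn 0 ∧ x ≠ pt hn 1}) fun hh => hh.1 rfl,
    Perm.ofSubtype_apply_of_not_mem (τ : Perm {x : Fin n // x ≠ pt hn 0 ∧ x ≠ pt hn 1}) fun hh => hh.2 rfl⟩

theorem exists_alt (σ : alternatingGroup (Fin n)) (h0 : (σ : Perm (Fin n)) (pt hn 0) = pt hn 0)
    (h1 : (σ : Perm (Fin n)) (pt hn 1) = pt hn 1) : ∃ τ, alt hn τ = σ := by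
  have hh : ∀ x, (((σ : Perm (Fin n)) x ≠ pt hn 0 ∧ (σ : Perm (Fin n)) x ≠ pt hn 1)) ↔
      (x ≠ pt hn 0 ∧ x ≠ pt hn 1) := by
    intro x
    have a0 : (σ : Perm (Fin n)) x = pt hn 0 ↔ x = pt hn 0 := by
      conv_lhs => rw [← h0, EmbeddingLike.apply_eq_iff_eq]
    have a1 : (σ : Perm (Fin n)) x = pt hn 1 ↔ x = pt hn 1 := by
      conv_lhs => rw [← h1, EmbeddingLike.apply_eq_iff_eq]
    exact and_congr (not_congr a0) (not_congr a1)
  have hmoved : ∀ x, (σ : Perm (Fin n)) x ≠ x → x ≠ pt hn 0 ∧ x ≠ pt hn 1 := fun x hx =>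
    ⟨fun e => hx (by rw [e]; exact h0), fun e => hx (by rw [e]; exact h1)⟩
  refine ⟨⟨(σ : Perm (Fin n)).subtypePerm hh, Perm.mem_alternatingGroup.2 ?_⟩,
    Subtype.ext (Perm.ofSubtype_subtypePerm hh hmoved)⟩
  rw [Perm.sign_subtypePerm _ hh hmoved]
  exact Perm.mem_alternatingGroup.1 σ.2

variable (K) [Finite K]

/-- The first rank one subgroup of `SL₃`. -/
noncomputable def s01 : Matrix.SpecialLinearGroup (Fin 2) K →* Matrix.SpecialLinearGroup (Fin 3) K :=
  (SLPres.slData 3 K).phi (le_refl 3) (show (0 : Fin 3) ≠ 1 by decide)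

/-- The same with the two indices exchanged. -/
noncomputable def s10 : Matrix.SpecialLinearGroup (Fin 2) K →* Matrix.SpecialLinearGroup (Fin 3) K :=
  (SLPres.slData 3 K).phi (le_refl 3) (show (1 : Fin 3) ≠ 0 by decide)

/-- The automorphism of the cycle. -/
noncomputable def aut3 : Matrix.SpecialLinearGroup (Fin 3) K →* Matrix.SpecialLinearGroup (Fin 3) K :=
  (sl_hom (le_refl 3) (comapData (SLPres.slData 3 K) cp cp.injective)).choose

/-- The corner. -/
noncomputable def i3 : Matrix.SpecialLinearGroup (Fin 3) K →* Matrix.SpecialLinearGroup (Fin n) K :=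
  (sl_hom (le_refl 3) (comapData (SLPres.slData n K) (e3 hn) (e3_inj hn))).choose

variable {K}

theorem s01_up (t : K) : s01 K (SL2Pres.up t) = tv 3 0 1 t := (SLPres.slData 3 K).phi_up _ _ t

theorem s01_low (t : K) : s01 K (SL2Pres.low t) = tv 3 1 0 t := (SLPres.slData 3 K).phi_low _ _ t

theorem s10_up (t : K) : s10 K (SL2Pres.up t) = tv 3 1 0 t := (SLPres.slData 3 K).phi_up _ _ t

theorem s10_low (t : K) : s10 K (SL2Pres.low t) = tv 3 0 1 t := (SLPres.slData 3 K).phi_low _ _ t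

theorem aut3_tv {a b : Fin 3} (h : a ≠ b) (t : K) : aut3 K (tv 3 a b t) = tv 3 (cp a) (cp b) t :=
  (sl_hom (le_refl 3) (comapData (SLPres.slData 3 K) cp cp.injective)).choose_spec a b h t

theorem i3_tv {a b : Fin 3} (h : a ≠ b) (t : K) : i3 K hn (tv 3 a b t) = tv n (e3 hn a) (e3 hn b) t :=
  (sl_hom (le_refl 3) (comapData (SLPres.slData n K) (e3 hn) (e3_inj hn))).choose_spec a b h t

theorem T_one (x : Matrix.SpecialLinearGroup (Fin 3) K) :
    pm n K (c3 hn) * i3 K hn x * (pm n K (c3 hn))⁻¹ = i3 K hn (aut3 K x) :=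
  DFunLike.congr_fun (sl_ext (by norm_num)
    (f := (MulAut.conj (pm n K (c3 hn))).toMonoidHom.comp (i3 K hn)) (g := (i3 K hn).comp (aut3 K))
    fun a b h t => by
      show pm n K (c3 hn) * i3 K hn _ * (pm n K (c3 hn))⁻¹ = i3 K hn (aut3 K _)
      rw [aut3_tv h, i3_tv hn h, i3_tv hn (cp.injective.ne h), pm_conj _ ((e3_inj hn).ne h),
        c3_e3, c3_e3]) x

theorem pm_s01 (σ : alternatingGroup (Fin n)) {i j : Fin n} (hi : (σ : Perm (Fin n)) (pt hn 0) = i)
    (hj : (σ : Perm (Fin n)) (pt hn 1) = j) (t : K) :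
    pm n K σ * i3 K hn (s01 K (SL2Pres.up t)) * (pm n K σ)⁻¹ = tv n i j t ∧
    pm n K σ * i3 K hn (s01 K (SL2Pres.low t)) * (pm n K σ)⁻¹ = tv n j i t := by
  subst hi hj
  constructor
  · rw [s01_up, i3_tv hn (by decide), pm_conj _ ((e3_inj hn).ne (by decide))]; rfl
  · rw [s01_low, i3_tv hn (by decide), pm_conj _ ((e3_inj hn).ne (by decide))]; rfl

theorem T_two (h : Matrix.SpecialLinearGroup (Fin 2) K) :
    pm n K (ga hn) * i3 K hn (s01 K h) * (pm n K (ga hn))⁻¹ = i3 K hn (s10 K h) := by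
  refine DFunLike.congr_fun (sl2_ext (f := (MulAut.conj (pm n K (ga hn))).toMonoidHom.comp
    ((i3 K hn).comp (s01 K))) (g := (i3 K hn).comp (s10 K)) (fun t => ?_) fun t => ?_) h
  · show pm n K (ga hn) * i3 K hn (s01 K _) * (pm n K (ga hn))⁻¹ = i3 K hn (s10 K _)
    rw [(pm_s01 hn _ (ga0 hn) (ga1 hn) t).1, s10_up, i3_tv hn (by decide)]; rfl
  · show pm n K (ga hn) * i3 K hn (s01 K _) * (pm n K (ga hn))⁻¹ = i3 K hn (s10 K _)
    rw [(pm_s01 hn _ (ga0 hn) (ga1 hn) t).2, s10_low, i3_tv hn (by decide)]; rfl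

theorem T_three (τ : alternatingGroup {x : Fin n // x ≠ pt hn 0 ∧ x ≠ pt hn 1})
    (h : Matrix.SpecialLinearGroup (Fin 2) K) :
    Commute (pm n K (alt hn τ)) (i3 K hn (s01 K h)) := by
  obtain ⟨f0, f1⟩ := alt_fix hn τ
  refine mul_inv_eq_iff_eq_mul.1 (DFunLike.congr_fun (sl2_ext
    (f := (MulAut.conj (pm n K (alt hn τ))).toMonoidHom.comp ((i3 K hn).comp (s01 K)))
    (g := (i3 K hn).comp (s01 K)) (fun t => ?_) fun t => ?_) h)
  · show pm n K _ * i3 K hn (s01 K _) * (pm n K _)⁻¹ = i3 K hn (s01 K _)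
    rw [(pm_s01 hn _ f0 f1 t).1, s01_up, i3_tv hn (by decide)]; rfl
  · show pm n K _ * i3 K hn (s01 K _) * (pm n K _)⁻¹ = i3 K hn (s01 K _)
    rw [(pm_s01 hn _ f0 f1 t).2, s01_low, i3_tv hn (by decide)]; rfl

theorem T_four (h h' : Matrix.SpecialLinearGroup (Fin 2) K) :
    Commute (i3 K hn (s01 K h)) (pm n K (gb hn) * i3 K hn (s01 K h') * (pm n K (gb hn))⁻¹) := by
  have hp := pt_inj hn
  have base : ∀ i j, i ≠ j → ∀ t, (i = pt hn 0 ∧ j = pt hn 1 ∨ i = pt hn 1 ∧ j = pt hn 0) →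
      Commute (tv n i j t) (pm n K (gb hn) * i3 K hn (s01 K h') * (pm n K (gb hn))⁻¹) := by
    intro i j hij t hh
    refine mul_inv_eq_iff_eq_mul.1 (DFunLike.congr_fun (sl2_ext
      (f := (MulAut.conj (tv n i j t)).toMonoidHom.comp
        ((MulAut.conj (pm n K (gb hn))).toMonoidHom.comp ((i3 K hn).comp (s01 K))))
      (g := (MulAut.conj (pm n K (gb hn))).toMonoidHom.comp ((i3 K hn).comp (s01 K)))
      (fun u => ?_) fun u => ?_) h')
    · show tv n i j t * (pm n K (gb hn) * i3 K hn (s01 K _) * (pm n K (gb hn))⁻¹) * (tv n i j t)⁻¹ =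
        pm n K (gb hn) * i3 K hn (s01 K _) * (pm n K (gb hn))⁻¹
      rw [(pm_s01 hn _ (gb0 hn) (gb1 hn) u).1]
      refine (SLPres.slData n K).conj_comm hij (hp.ne (by decide)) ?_ ?_ t u
      · rcases hh with ⟨rfl, rfl⟩ | ⟨rfl, rfl⟩ <;> exact hp.ne (by decide)
      · rcases hh with ⟨rfl, rfl⟩ | ⟨rfl, rfl⟩ <;> exact hp.ne (by decide)
    · show tv n i j t * (pm n K (gb hn) * i3 K hn (s01 K _) * (pm n K (gb hn))⁻¹) * (tv n i j t)⁻¹ =
        pm n K (gb hn) * i3 K hn (s01 K _) * (pm n K (gb hn))⁻¹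
      rw [(pm_s01 hn _ (gb0 hn) (gb1 hn) u).2]
      refine (SLPres.slData n K).conj_comm hij (hp.ne (by decide)) ?_ ?_ t u
      · rcases hh with ⟨rfl, rfl⟩ | ⟨rfl, rfl⟩ <;> exact hp.ne (by decide)
      · rcases hh with ⟨rfl, rfl⟩ | ⟨rfl, rfl⟩ <;> exact hp.ne (by decide)
  refine (mul_inv_eq_iff_eq_mul.1 (DFunLike.congr_fun (sl2_ext
    (f := (MulAut.conj (pm n K (gb hn) * i3 K hn (s01 K h') * (pm n K (gb hn))⁻¹)).toMonoidHom.comp
      ((i3 K hn).comp (s01 K)))
    (g := (i3 K hn).comp (s01 K)) (fun u => ?_) fun u => ?_) h)).symm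
  · show _ * i3 K hn (s01 K _) * _ = i3 K hn (s01 K _)
    rw [s01_up, i3_tv hn (by decide)]
    exact mul_inv_eq_iff_eq_mul.2 ((base _ _ ((e3_inj hn).ne (by decide)) u (Or.inl ⟨rfl, rfl⟩)).symm)
  · show _ * i3 K hn (s01 K _) * _ = i3 K hn (s01 K _)
    rw [s01_low, i3_tv hn (by decide)]
    exact mul_inv_eq_iff_eq_mul.2 ((base _ _ ((e3_inj hn).ne (by decide)) u (Or.inr ⟨rfl, rfl⟩)).symm)

/-- A transvection as a conjugate of the first one. -/
noncomputable def zT (q : alternatingGroup (Fin n) × K) : Matrix.SpecialLinearGroup (Fin n) K :=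
  tv n ((q.1 : Perm (Fin n)) (pt hn 0)) ((q.1 : Perm (Fin n)) (pt hn 1)) q.2

theorem zT_gen : Subgroup.closure (Set.range (zT (K := K) hn)) = ⊤ := by
  haveI : Nontrivial (Fin n) := Fin.nontrivial_iff_two_le.2 (by omega)
  rw [eq_top_iff, ← ClassicalSL.closure_elemTransvections, Subgroup.closure_le]
  rintro _ ⟨i, j, hij, c, rfl⟩
  obtain ⟨τ, h0, h1⟩ := exists_pair_alt hn hij
  refine Subgroup.subset_closure ⟨(τ, c), ?_⟩
  simp only [zT, h0, h1, tv, SLPres.slData_y hij]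

theorem zT_eq (q : alternatingGroup (Fin n) × K) :
    zT hn q = pm n K q.1 * i3 K hn (tv 3 0 1 q.2) * (pm n K q.1)⁻¹ := by
  rw [← s01_up]
  exact ((pm_s01 hn q.1 rfl rfl q.2).1).symm

section universal

variable {G : Type} [Group G]

/-- The relations in an arbitrary group. -/
structure Rels (φ : Matrix.SpecialLinearGroup (Fin 3) K →* G) (ψ : alternatingGroup (Fin n) →* G) :
    Prop where
  cyc : ∀ h, ψ (c3 hn) * φ h * (ψ (c3 hn))⁻¹ = φ (aut3 K h)
  exch : ∀ h, ψ (ga hn) * φ (s01 K h) * (ψ (ga hn))⁻¹ = φ (s10 K h)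
  fixed : ∀ τ h, Commute (ψ (alt hn τ)) (φ (s01 K h))
  far : ∀ h h', Commute (φ (s01 K h)) (ψ (gb hn) * φ (s01 K h') * (ψ (gb hn))⁻¹)

variable {hn} (φ : Matrix.SpecialLinearGroup (Fin 3) K →* G) (ψ : alternatingGroup (Fin n) →* G)

open Classical in
/-- A root element of the universal group. -/
noncomputable def rootY (hn : 4 ≤ n) (i j : Fin n) (t : K) : G :=
  if h : ∃ τ : alternatingGroup (Fin n), (τ : Perm (Fin n)) (pt hn 0) = i ∧ (τ : Perm (Fin n)) (pt hn 1) = j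
    then ψ h.choose * φ (tv 3 0 1 t) * (ψ h.choose)⁻¹ else 1

variable {φ ψ} (RR : Rels hn φ ψ)
include RR

theorem y_eq (τ : alternatingGroup (Fin n)) {i j : Fin n} (h0 : (τ : Perm (Fin n)) (pt hn 0) = i)
    (h1 : (τ : Perm (Fin n)) (pt hn 1) = j) (t : K) :
    rootY φ ψ hn i j t = ψ τ * φ (tv 3 0 1 t) * (ψ τ)⁻¹ := by
  have hex : ∃ τ : alternatingGroup (Fin n),
      (τ : Perm (Fin n)) (pt hn 0) = i ∧ (τ : Perm (Fin n)) (pt hn 1) = j := ⟨τ, h0, h1⟩
  rw [rootY, dif_pos hex]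
  obtain ⟨c0, c1⟩ := hex.choose_spec
  set σ := hex.choose
  obtain ⟨ρ, hρ⟩ := exists_alt hn (τ⁻¹ * σ)
    (show ((τ : Perm (Fin n)))⁻¹ ((σ : Perm (Fin n)) (pt hn 0)) = pt hn 0 by
      rw [c0, ← h0, Perm.inv_def, Equiv.symm_apply_apply])
    (show ((τ : Perm (Fin n)))⁻¹ ((σ : Perm (Fin n)) (pt hn 1)) = pt hn 1 by
      rw [c1, ← h1, Perm.inv_def, Equiv.symm_apply_apply])
  have hc : Commute (ψ (τ⁻¹ * σ)) (φ (tv 3 0 1 t)) := by
    rw [← hρ, ← s01_up]; exact RR.fixed ρ _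
  rw [show ψ σ = ψ τ * ψ (τ⁻¹ * σ) by rw [← map_mul, mul_inv_cancel_left],
    show ψ τ * ψ (τ⁻¹ * σ) * φ (tv 3 0 1 t) * (ψ τ * ψ (τ⁻¹ * σ))⁻¹ =
      ψ τ * (ψ (τ⁻¹ * σ) * φ (tv 3 0 1 t) * (ψ (τ⁻¹ * σ))⁻¹) * (ψ τ)⁻¹ by group, hc.eq,
    mul_inv_cancel_right]

theorem y_cov (σ : alternatingGroup (Fin n)) {i j : Fin n} (hij : i ≠ j) (t : K) :
    ψ σ * rootY φ ψ hn i j t * (ψ σ)⁻¹ =
      rootY φ ψ hn ((σ : Perm (Fin n)) i) ((σ : Perm (Fin n)) j) t := by
  obtain ⟨τ, h0, h1⟩ := exists_pair_alt hn hij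
  rw [y_eq RR τ h0 h1, y_eq RR (σ * τ)
    (show (σ : Perm (Fin n)) ((τ : Perm (Fin n)) (pt hn 0)) = (σ : Perm (Fin n)) i by rw [h0])
    (show (σ : Perm (Fin n)) ((τ : Perm (Fin n)) (pt hn 1)) = (σ : Perm (Fin n)) j by rw [h1]), map_mul]
  group

theorem y_cyc {a b : Fin 3} (hab : a ≠ b)
    (h : ∀ t, rootY φ ψ hn (e3 hn a) (e3 hn b) t = φ (tv 3 a b t)) (t : K) :
    rootY φ ψ hn (e3 hn (cp a)) (e3 hn (cp b)) t = φ (tv 3 (cp a) (cp b) t) := by
  rw [← c3_e3, ← c3_e3, ← y_cov RR (c3 hn) ((e3_inj hn).ne hab), h, RR.cyc, aut3_tv hab]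

theorem y_in {a b : Fin 3} (hab : a ≠ b) (t : K) :
    rootY φ ψ hn (e3 hn a) (e3 hn b) t = φ (tv 3 a b t) := by
  have y01 : ∀ t, rootY φ ψ hn (e3 hn 0) (e3 hn 1) t = φ (tv 3 0 1 t) := fun t => by
    rw [y_eq RR 1 (i := e3 hn 0) (j := e3 hn 1) rfl rfl t, map_one, one_mul, inv_one, mul_one]
  have y10 : ∀ t, rootY φ ψ hn (e3 hn 1) (e3 hn 0) t = φ (tv 3 1 0 t) := fun t => by
    rw [← s10_up, ← RR.exch, s01_up, ← y01, y_cov RR (ga hn) ((e3_inj hn).ne (by decide))]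
    exact congrArg₂ (fun i j => rootY φ ψ hn i j t) (ga0 hn).symm (ga1 hn).symm
  have c0 : cp 0 = 1 := by decide
  have c1 : cp 1 = 2 := by decide
  have c2 : cp 2 = 0 := by decide
  have y12 : ∀ t, rootY φ ψ hn (e3 hn 1) (e3 hn 2) t = φ (tv 3 1 2 t) := fun t => by
    have h := y_cyc RR (show (0 : Fin 3) ≠ 1 by decide) y01 t
    rwa [c0, c1] at h
  have y20 : ∀ t, rootY φ ψ hn (e3 hn 2) (e3 hn 0) t = φ (tv 3 2 0 t) := fun t => by
    have h := y_cyc RR (show (1 : Fin 3) ≠ 2 by decide) y12 t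
    rwa [c1, c2] at h
  have y21 : ∀ t, rootY φ ψ hn (e3 hn 2) (e3 hn 1) t = φ (tv 3 2 1 t) := fun t => by
    have h := y_cyc RR (show (1 : Fin 3) ≠ 0 by decide) y10 t
    rwa [c0, c1] at h
  have y02 : ∀ t, rootY φ ψ hn (e3 hn 0) (e3 hn 2) t = φ (tv 3 0 2 t) := fun t => by
    have h := y_cyc RR (show (2 : Fin 3) ≠ 1 by decide) y21 t
    rwa [c1, c2] at h
  have all : ∀ a : Fin 3, a = 0 ∨ a = 1 ∨ a = 2 := by decide
  rcases all a with rfl | rfl | rfl <;> rcases all b with rfl | rfl | rfl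
  · exact absurd rfl hab
  · exact y01 t
  · exact y02 t
  · exact y10 t
  · exact absurd rfl hab
  · exact y12 t
  · exact y20 t
  · exact y21 t
  · exact absurd rfl hab

theorem y_tr (τ : alternatingGroup (Fin n)) {a b : Fin 3} (h : a ≠ b) (t : K) :
    rootY φ ψ hn ((τ : Perm (Fin n)) (e3 hn a)) ((τ : Perm (Fin n)) (e3 hn b)) t =
      ψ τ * φ (tv 3 a b t) * (ψ τ)⁻¹ := by
  rw [← y_cov RR τ ((e3_inj hn).ne h), y_in RR h]

theorem y_add {i j : Fin n} (hij : i ≠ j) (t u : K) :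
    rootY φ ψ hn i j t * rootY φ ψ hn i j u = rootY φ ψ hn i j (t + u) := by
  obtain ⟨τ, h0, h1⟩ := exists_pair_alt hn hij
  rw [y_eq RR τ h0 h1, y_eq RR τ h0 h1, y_eq RR τ h0 h1,
    show tv 3 0 1 (t + u) = tv 3 0 1 t * tv 3 0 1 u from
      ((SLPres.slData 3 K).add (show (0 : Fin 3) ≠ 1 by decide) t u).symm, map_mul]
  group

theorem y_brac {i j l : Fin n} (hij : i ≠ j) (hjl : j ≠ l) (hil : i ≠ l) (t u : K) :
    ⁅rootY φ ψ hn i j t, rootY φ ψ hn j l u⁆ = rootY φ ψ hn i l (t * u) := by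
  obtain ⟨τ, a, b, c, h1, h2, h3, ra, rb, rc⟩ := exists_triple hn hij hjl hil
  subst ra rb rc
  rw [y_tr RR τ h1, y_tr RR τ h2, y_tr RR τ h3,
    show tv 3 a c (t * u) = ⁅tv 3 a b t, tv 3 b c u⁆ from ((SLPres.slData 3 K).brac h1 h2 h3 t u).symm,
    map_commutatorElement, ← MulAut.conj_apply, ← MulAut.conj_apply, ← MulAut.conj_apply,
    map_commutatorElement]

theorem y_commute {X Y : Matrix.SpecialLinearGroup (Fin 3) K} (τ : alternatingGroup (Fin n))
    (h : Commute X Y) : Commute (ψ τ * φ X * (ψ τ)⁻¹) (ψ τ * φ Y * (ψ τ)⁻¹) :=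
  (h.map φ).map (MulAut.conj (ψ τ)).toMonoidHom

theorem y_far {i j k l : Fin n} (hij : i ≠ j) (hkl : k ≠ l) (hik : i ≠ k) (hjl : j ≠ l)
    (hil : i ≠ l) (hjk : j ≠ k) (t u : K) :
    Commute (rootY φ ψ hn i j t) (rootY φ ψ hn k l u) := by
  have hp := pt_inj hn
  obtain ⟨σ, hσ⟩ := exists_even (pt hn) ![i, j, k, l] hp
    (by intro x z; fin_cases x <;> fin_cases z <;>
      simp [hij, hij.symm, hkl, hkl.symm, hil, hil.symm, hjk, hjk.symm, hik, hik.symm, hjl, hjl.symm])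
    (show (2 : Fin 4) ≠ 3 by decide)
  have y23 : rootY φ ψ hn (pt hn 2) (pt hn 3) u = ψ (gb hn) * φ (s01 K (SL2Pres.up u)) * (ψ (gb hn))⁻¹ := by
    rw [s01_up]; exact y_eq RR (gb hn) (gb0 hn) (gb1 hn) u
  have y32 : rootY φ ψ hn (pt hn 3) (pt hn 2) u = ψ (gb hn) * φ (s01 K (SL2Pres.low u)) * (ψ (gb hn))⁻¹ := by
    rw [s01_low, ← y_in RR (show (1 : Fin 3) ≠ 0 by decide), y_cov RR (gb hn) ((e3_inj hn).ne (by decide))]
    exact congrArg₂ (fun i j => rootY φ ψ hn i j u) (gb1 hn).symm (gb0 hn).symm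
  have key : ∀ h', Commute (rootY φ ψ hn (pt hn 0) (pt hn 1) t)
      (ψ (gb hn) * φ (s01 K h') * (ψ (gb hn))⁻¹) := fun h' => by
    rw [y_eq RR 1 (i := pt hn 0) (j := pt hn 1) rfl rfl, map_one, one_mul, inv_one, mul_one, ← s01_up]
    exact RR.far _ _
  rcases hσ with h | ⟨h2, h3, h4⟩
  · rw [show i = (σ : Perm (Fin n)) (pt hn 0) from (h 0).symm,
      show j = (σ : Perm (Fin n)) (pt hn 1) from (h 1).symm,
      show k = (σ : Perm (Fin n)) (pt hn 2) from (h 2).symm,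
      show l = (σ : Perm (Fin n)) (pt hn 3) from (h 3).symm,
      ← y_cov RR σ (hp.ne (by decide)), ← y_cov RR σ (hp.ne (by decide))]
    refine Commute.map ?_ (MulAut.conj (ψ σ)).toMonoidHom
    rw [y23]; exact key _
  · rw [show i = (σ : Perm (Fin n)) (pt hn 0) from (h4 0 (by decide) (by decide)).symm,
      show j = (σ : Perm (Fin n)) (pt hn 1) from (h4 1 (by decide) (by decide)).symm,
      show k = (σ : Perm (Fin n)) (pt hn 3) from h3.symm,
      show l = (σ : Perm (Fin n)) (pt hn 2) from h2.symm,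
      ← y_cov RR σ (hp.ne (by decide)), ← y_cov RR σ (hp.ne (by decide))]
    refine Commute.map ?_ (MulAut.conj (ψ σ)).toMonoidHom
    rw [y32]; exact key _

/-- The relations give a homomorphism from `SLₙ`. -/
theorem exists_sl_hom :
    ∃ f : Matrix.SpecialLinearGroup (Fin n) K →* G, (∀ x, f (i3 K hn x) = φ x) ∧
      ∀ q, f (zT hn q) = ψ q.1 * φ (tv 3 0 1 q.2) * (ψ q.1)⁻¹ := by
  let D : SLPres.Data n K G :=
    { y := rootY φ ψ hn
      add := fun i j hij => y_add RR hij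
      brac := fun i j l hij hjl hil => y_brac RR hij hjl hil
      comm := by
        intro i j k l hij hkl hil hjk t u
        rcases eq_or_ne i k with hik | hik
        · subst hik
          rcases eq_or_ne j l with hjl | hjl
          · subst hjl
            show rootY φ ψ hn i j t * rootY φ ψ hn i j u = rootY φ ψ hn i j u * rootY φ ψ hn i j t
            rw [y_add RR hij, y_add RR hij, add_comm]
          · obtain ⟨τ, a, b, c, h1, h2, h3, ra, rb, rc⟩ := exists_triple hn hij hjl hil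
            rw [← ra, ← rb, ← rc, y_tr RR τ h1, y_tr RR τ h3]
            exact y_commute RR τ ((SLPres.slData 3 K).comm h1 h3 h3 h1.symm t u)
        · rcases eq_or_ne j l with hjl | hjl
          · subst hjl
            obtain ⟨τ, a, b, c, h1, h2, h3, ra, rb, rc⟩ := exists_triple hn hij hjk hik
            rw [← ra, ← rb, ← rc, y_tr RR τ h1, y_tr RR τ h2.symm]
            exact y_commute RR τ ((SLPres.slData 3 K).comm h1 h2.symm h1 h2 t u)
          · exact y_far RR hij hkl hik hjl hil hjk t u }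
  obtain ⟨f, hf⟩ := sl_hom (by omega : 3 ≤ n) D
  refine ⟨f, fun x => DFunLike.congr_fun (sl_ext (by norm_num) (f := f.comp (i3 K hn)) (g := φ)
    fun a b hab t => ?_) x, fun q => ?_⟩
  · rw [MonoidHom.comp_apply, i3_tv hn hab, hf _ _ ((e3_inj hn).ne hab)]
    exact y_in RR hab t
  · rw [zT, hf _ _ ((q.1 : Perm (Fin n)).injective.ne ((pt_inj hn).ne (show (0 : Fin 4) ≠ 1 by decide)))]
    exact y_eq RR q.1 rfl rfl q.2

end universal

set_option maxHeartbeats 1000000 in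
include hn in
/-- `SLₙ(q)` has a presentation with at most 68 relations. -/
theorem presB_sl : PresB (Matrix.SpecialLinearGroup (Fin n) K) 68 := by
  classical
  obtain ⟨α, hα, R3, v3, hR3, hv3, hgen3, hu3⟩ :=
    (show PresB (Matrix.SpecialLinearGroup (Fin 3) K) 14 by
      obtain ⟨R, hR, ⟨e⟩⟩ := SLPres.Short.main (K := K)
      exact of_presentation R hR e).exists_data
  obtain ⟨β, hβ, RA, vA, hRA, hvA, hgenA, huA⟩ := (presB_alternating (Fin n)).exists_data
  obtain ⟨G3, hG3, hG3g⟩ := exists_gens_three (K := K)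
  obtain ⟨G2, hG2, hG2g⟩ := exists_gens_two (K := K)
  obtain ⟨GA, hGA, hGAg⟩ := exists_alt_gens (Fin n)
  obtain ⟨GS, hGS, hGSg⟩ := exists_alt_gens {x : Fin n // x ≠ pt hn 0 ∧ x ≠ pt hn 1}
  let v : α ⊕ β → Matrix.SpecialLinearGroup (Fin n) K := Sum.elim (i3 K hn ∘ v3) (pm n K ∘ vA)
  choose pre3 hpre3 using fun x => exists_word v3 (t := x) (hgen3 ▸ Subgroup.mem_top x)
  choose preA hpreA using fun x => exists_word vA (t := x) (hgenA ▸ Subgroup.mem_top x)
  let W3 : Matrix.SpecialLinearGroup (Fin 3) K → FreeGroup (α ⊕ β) := fun x =>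
    FreeGroup.map Sum.inl (pre3 x)
  let WA : alternatingGroup (Fin n) → FreeGroup (α ⊕ β) := fun x => FreeGroup.map Sum.inr (preA x)
  let Z : alternatingGroup (Fin n) × K → FreeGroup (α ⊕ β) := fun q =>
    WA q.1 * W3 (tv 3 0 1 q.2) * (WA q.1)⁻¹
  have hl3 : (FreeGroup.lift v).comp (FreeGroup.map Sum.inl) = (i3 K hn).comp (FreeGroup.lift v3) :=
    FreeGroup.ext_hom _ _ fun i => by simp [v]
  have hlA : (FreeGroup.lift v).comp (FreeGroup.map Sum.inr) = (pm n K).comp (FreeGroup.lift vA) :=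
    FreeGroup.ext_hom _ _ fun i => by simp [v]
  have hv3' : ∀ x, FreeGroup.lift v (W3 x) = i3 K hn x := fun x => by
    refine (DFunLike.congr_fun hl3 (pre3 x)).trans ?_
    rw [MonoidHom.comp_apply, hpre3]
  have hvA' : ∀ x, FreeGroup.lift v (WA x) = pm n K x := fun x => by
    refine (DFunLike.congr_fun hlA (preA x)).trans ?_
    rw [MonoidHom.comp_apply, hpreA]
  have hvZ : (FreeGroup.lift v).comp (FreeGroup.lift Z) = FreeGroup.lift (zT hn) :=
    FreeGroup.ext_hom _ _ fun q => by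
      simp only [MonoidHom.comp_apply, FreeGroup.lift_apply_of, Z, map_mul, map_inv, hv3', hvA', zT_eq]
  choose zw hzw using fun x => exists_word (zT (K := K) hn) (t := x)
    ((zT_gen (K := K) hn) ▸ Subgroup.mem_top x)
  let Q1 := G3.image fun h => WA (c3 hn) * W3 h * (WA (c3 hn))⁻¹ * (W3 (aut3 K h))⁻¹
  let Q2 := G2.image fun h => WA (ga hn) * W3 (s01 K h) * (WA (ga hn))⁻¹ * (W3 (s10 K h))⁻¹
  let Q3 := (GS ×ˢ G2).image fun q => ⁅WA (alt hn q.1), W3 (s01 K q.2)⁆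
  let Q4 := (G2 ×ˢ G2).image fun q => ⁅W3 (s01 K q.1), WA (gb hn) * W3 (s01 K q.2) * (WA (gb hn))⁻¹⁆
  let Q5 := GA.image fun σ => WA σ * (FreeGroup.lift Z (zw (pm n K σ)))⁻¹
  let R := R3.image (FreeGroup.map Sum.inl) ∪ RA.image (FreeGroup.map Sum.inr) ∪
    (Q1 ∪ Q2 ∪ Q3 ∪ Q4 ∪ Q5)
  have hcard : R.card ≤ 68 := by
    have := Finset.card_union_le (R3.image (FreeGroup.map Sum.inl) ∪ RA.image (FreeGroup.map Sum.inr))
      (Q1 ∪ Q2 ∪ Q3 ∪ Q4 ∪ Q5)
    have := Finset.card_union_le (R3.image (FreeGroup.map (Sum.inl (β := β)))) (RA.image (FreeGroup.map Sum.inr))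
    have := Finset.card_union_le (Q1 ∪ Q2 ∪ Q3 ∪ Q4) Q5
    have := Finset.card_union_le (Q1 ∪ Q2 ∪ Q3) Q4
    have := Finset.card_union_le (Q1 ∪ Q2) Q3
    have := Finset.card_union_le Q1 Q2
    have : (R3.image (FreeGroup.map (Sum.inl (β := β)))).card ≤ 14 := Finset.card_image_le.trans hR3
    have : (RA.image (FreeGroup.map (Sum.inr (α := α)))).card ≤ 26 := Finset.card_image_le.trans hRA
    have : Q1.card ≤ 4 := Finset.card_image_le.trans hG3
    have : Q2.card ≤ 3 := Finset.card_image_le.trans hG2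
    have : Q3.card ≤ 9 := Finset.card_image_le.trans (by
      rw [Finset.card_product]; exact Nat.mul_le_mul hGS hG2)
    have : Q4.card ≤ 9 := Finset.card_image_le.trans (by
      rw [Finset.card_product]; exact Nat.mul_le_mul hG2 hG2)
    have : Q5.card ≤ 3 := Finset.card_image_le.trans hGA
    simp only [R]
    omega
  refine of_data R hcard v ?_ ?_ ?_
  · intro x hx
    simp only [R, Q1, Q2, Q3, Q4, Q5, Finset.mem_union, Finset.mem_image, Finset.mem_product,
      Prod.exists] at hx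
    rcases hx with (⟨y, hy, rfl⟩ | ⟨y, hy, rfl⟩) |
      ((((⟨h, -, rfl⟩ | ⟨h, -, rfl⟩) | ⟨τ, h, -, rfl⟩) | ⟨h, h', -, rfl⟩) | ⟨σ, -, rfl⟩)
    · rw [show FreeGroup.lift v (FreeGroup.map Sum.inl y) = i3 K hn (FreeGroup.lift v3 y) from
        DFunLike.congr_fun hl3 y, hv3 y hy, map_one]
    · rw [show FreeGroup.lift v (FreeGroup.map Sum.inr y) = pm n K (FreeGroup.lift vA y) from
        DFunLike.congr_fun hlA y, hvA y hy, map_one]
    · rw [map_mul, map_mul, map_mul, map_inv, map_inv, hvA', hv3', hv3', mul_inv_eq_one]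
      exact T_one hn h
    · rw [map_mul, map_mul, map_mul, map_inv, map_inv, hvA', hv3', hv3', mul_inv_eq_one]
      exact T_two hn h
    · rw [map_commutatorElement, hvA', hv3']
      exact commutatorElement_eq_one_iff_commute.2 (T_three hn τ h)
    · rw [map_commutatorElement, map_mul, map_mul, map_inv, hvA', hv3', hv3']
      exact commutatorElement_eq_one_iff_commute.2 (T_four hn h h')
    · rw [map_mul, map_inv, hvA', show FreeGroup.lift v (FreeGroup.lift Z (zw (pm n K σ))) = pm n K σ from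
        (DFunLike.congr_fun hvZ _).trans (hzw _), mul_inv_cancel]
  · rw [eq_top_iff, ← zT_gen (K := K) hn, Subgroup.closure_le]
    rintro _ ⟨q, rfl⟩
    rw [zT_eq, ← hvA', ← hv3']
    exact mul_mem (mul_mem (lift_mem_closure v _) (lift_mem_closure v _)) (inv_mem (lift_mem_closure v _))
  · intro G _ w hw _
    obtain ⟨φ, hφ⟩ := hu3 G (w ∘ Sum.inl) fun x hx => by
      rw [← hw _ (Finset.mem_union_left _ (Finset.mem_union_left _ (Finset.mem_image_of_mem _ hx)))]
      exact DFunLike.congr_fun (f := FreeGroup.lift (w ∘ Sum.inl))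
        (g := (FreeGroup.lift w).comp (FreeGroup.map Sum.inl)) (FreeGroup.ext_hom _ _ fun i => by simp) x
    obtain ⟨ψ, hψ⟩ := huA G (w ∘ Sum.inr) fun x hx => by
      rw [← hw _ (Finset.mem_union_left _ (Finset.mem_union_right _ (Finset.mem_image_of_mem _ hx)))]
      exact DFunLike.congr_fun (f := FreeGroup.lift (w ∘ Sum.inr))
        (g := (FreeGroup.lift w).comp (FreeGroup.map Sum.inr)) (FreeGroup.ext_hom _ _ fun i => by simp) x
    have hw3 : ∀ x, FreeGroup.lift w (W3 x) = φ x := fun x => by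
      refine (DFunLike.congr_fun (f := (FreeGroup.lift w).comp (FreeGroup.map Sum.inl))
        (g := φ.comp (FreeGroup.lift v3)) (FreeGroup.ext_hom _ _ fun i => by simp [hφ]) (pre3 x)).trans ?_
      rw [MonoidHom.comp_apply, hpre3]
    have hwA : ∀ x, FreeGroup.lift w (WA x) = ψ x := fun x => by
      refine (DFunLike.congr_fun (f := (FreeGroup.lift w).comp (FreeGroup.map Sum.inr))
        (g := ψ.comp (FreeGroup.lift vA)) (FreeGroup.ext_hom _ _ fun i => by simp [hψ]) (preA x)).trans ?_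
      rw [MonoidHom.comp_apply, hpreA]
    have hQ : ∀ x ∈ Q1 ∪ Q2 ∪ Q3 ∪ Q4 ∪ Q5, FreeGroup.lift w x = 1 := fun x hx =>
      hw x (Finset.mem_union_right _ hx)
    simp only [Q1, Q2, Q3, Q4, Q5, Finset.mem_union, or_imp, forall_and, Finset.forall_mem_image,
      Finset.mem_product, Prod.forall, and_imp, map_mul, map_inv, map_commutatorElement,
      hw3, hwA, mul_inv_eq_one] at hQ
    obtain ⟨⟨⟨⟨q1, q2⟩, q3⟩, q4⟩, q5⟩ := hQ
    have RR : Rels hn φ ψ :=
      { cyc := fun h => DFunLike.congr_fun (MonoidHom.eq_of_eqOn_dense hG3g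
          (f := (MulAut.conj (ψ (c3 hn))).toMonoidHom.comp φ)
          (g := φ.comp (aut3 K)) fun x hx => q1 (Finset.mem_coe.1 hx)) h
        exch := fun h => DFunLike.congr_fun (MonoidHom.eq_of_eqOn_dense hG2g
          (f := (MulAut.conj (ψ (ga hn))).toMonoidHom.comp (φ.comp (s01 K)))
          (g := φ.comp (s10 K)) fun x hx => q2 (Finset.mem_coe.1 hx)) h
        fixed := fun τ h => commute_extend (ψ.comp (alt hn)) (φ.comp (s01 K)) _ _ hGSg hG2g
          (fun k hk k' hk' => commutatorElement_eq_one_iff_commute.1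
            (q3 k k' (Finset.mem_coe.1 hk) (Finset.mem_coe.1 hk'))) τ h
        far := fun h h' => commute_extend (φ.comp (s01 K))
          ((MulAut.conj (ψ (gb hn))).toMonoidHom.comp (φ.comp (s01 K))) _ _ hG2g hG2g
          (fun k hk k' hk' => commutatorElement_eq_one_iff_commute.1
            (q4 k k' (Finset.mem_coe.1 hk) (Finset.mem_coe.1 hk'))) h h' }
    obtain ⟨f, hf3, hfz⟩ := exists_sl_hom RR
    have fA : f.comp (pm n K) = ψ := MonoidHom.eq_of_eqOn_dense hGAg fun σ hσ => by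
      show f (pm n K σ) = ψ σ
      rw [q5 (Finset.mem_coe.1 hσ)]
      conv_lhs => rw [← hzw (pm n K σ)]
      refine DFunLike.congr_fun (f := f.comp (FreeGroup.lift (zT hn)))
        (g := (FreeGroup.lift w).comp (FreeGroup.lift Z)) (FreeGroup.ext_hom _ _ fun q => ?_) _
      simp only [MonoidHom.comp_apply, FreeGroup.lift_apply_of, Z, map_mul, map_inv, hw3, hwA, hfz]
    refine ⟨f, fun i => ?_⟩
    rcases i with i | i
    · exact (hf3 (v3 i)).trans (hφ i)
    · exact (DFunLike.congr_fun fA (vA i)).trans (hψ i)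

end Cfsg.Agent.BoundedPres
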