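import Cfsg.Agent.Lib.BoundedPres.SLAux

/-!
Symmetric groups have presentations with at most thirty relations.
-/

set_option autoImplicit false
set_option linter.unusedSectionVars false

namespace Cfsg.Agent.BoundedPres

open Equiv

variable (α : Type*) [Fintype α] [DecidableEq α]

theorem presB_perm : PresB (Perm α) 30 := by
  classical
  by_cases hsmall : Fintype.card α ≤ 1
  · haveI := Fintype.card_le_one_iff_subsingleton.1 hsmall
    exact of_data (α := Empty) ∅ (by simp) Empty.elim (by simp)
      (by rw [eq_top_iff]; intro x _; rw [Subsingleton.elim x 1]; exact one_mem _)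
      (fun G _ w _ _ => ⟨1, fun i => i.elim⟩)
  obtain ⟨a, b, hab⟩ := Fintype.exists_pair_of_one_lt_card (by omega : 1 < Fintype.card α)
  set s : Perm α := swap a b with hs
  have hss : s * s = 1 := swap_mul_self a b
  have hsinv : s⁻¹ = s := swap_inv a b
  have hsg : Perm.sign s = -1 := Perm.sign_swap hab
  obtain ⟨β, hβ, RA, vA, hRA, hvA, hgenA, huA⟩ := (presB_alternating α).exists_data
  obtain ⟨GA, hGA, hGAg⟩ := exists_alt_gens α
  choose preA hpreA using fun x => exists_word vA (t := x) (hgenA ▸ Subgroup.mem_top x)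
  let W : alternatingGroup α → FreeGroup (β ⊕ Unit) := fun x => FreeGroup.map Sum.inl (preA x)
  let tt : FreeGroup (β ⊕ Unit) := FreeGroup.of (Sum.inr ())
  let cj : alternatingGroup α →* alternatingGroup α :=
    ((MulAut.conj s).toMonoidHom.comp (alternatingGroup α).subtype).codRestrict _ fun x =>
      Perm.mem_alternatingGroup.2 (by
        show Perm.sign (s * (x : Perm α) * s⁻¹) = 1
        rw [map_mul, map_mul, Perm.mem_alternatingGroup.1 x.2, map_inv, mul_one, mul_inv_cancel])
  let R := RA.image (FreeGroup.map Sum.inl) ∪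
    (GA.image (fun g => tt * W g * tt⁻¹ * (W (cj g))⁻¹) ∪ {tt * tt})
  have hcard : R.card ≤ 30 := by
    refine (Finset.card_union_le _ _).trans ?_
    have := Finset.card_union_le (GA.image fun g => tt * W g * tt⁻¹ * (W (cj g))⁻¹) ({tt * tt})
    have : (RA.image (FreeGroup.map (Sum.inl (β := Unit)))).card ≤ 26 := Finset.card_image_le.trans hRA
    have := (Finset.card_image_le (s := GA) (f := fun g => tt * W g * tt⁻¹ * (W (cj g))⁻¹)).trans hGA
    rw [Finset.card_singleton] at *
    omega
  let v : β ⊕ Unit → Perm α := Sum.elim (fun i => (vA i : Perm α)) fun _ => s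
  have hl : (FreeGroup.lift v).comp (FreeGroup.map Sum.inl) =
      (alternatingGroup α).subtype.comp (FreeGroup.lift vA) :=
    FreeGroup.ext_hom _ _ fun i => by simp [v]
  have hvW : ∀ x, FreeGroup.lift v (W x) = (x : Perm α) := fun x => by
    refine (DFunLike.congr_fun hl (preA x)).trans ?_
    rw [MonoidHom.comp_apply, hpreA]; rfl
  have hvt : FreeGroup.lift v tt = s := FreeGroup.lift_apply_of
  refine of_data R hcard v ?_ ?_ ?_
  · intro x hx
    simp only [R, Finset.mem_union, Finset.mem_image, Finset.mem_singleton] at hx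
    rcases hx with ⟨y, hy, rfl⟩ | ⟨g, -, rfl⟩ | rfl
    · rw [show FreeGroup.lift v (FreeGroup.map Sum.inl y) = (alternatingGroup α).subtype
        (FreeGroup.lift vA y) from DFunLike.congr_fun hl y, hvA y hy, map_one]
    · rw [map_mul, map_mul, map_mul, map_inv, map_inv, hvW, hvW, hvt, mul_inv_eq_one]
      rfl
    · rw [map_mul, hvt, hss]
  · have hA : ∀ x : alternatingGroup α, (x : Perm α) ∈ Subgroup.closure (Set.range v) := fun x =>
      hvW x ▸ lift_mem_closure v _
    rw [eq_top_iff]
    intro σ _
    rcases Int.units_eq_one_or (Perm.sign σ) with h | h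
    · exact hA ⟨σ, Perm.mem_alternatingGroup.2 h⟩
    · have := mul_mem (hA ⟨σ * s, Perm.mem_alternatingGroup.2 (by rw [map_mul, h, hsg]; rfl)⟩)
        (hvt ▸ lift_mem_closure v tt : s ∈ Subgroup.closure (Set.range v))
      rwa [mul_assoc, hss, mul_one] at this
  · intro G _ w hw _
    obtain ⟨φ, hφ⟩ := huA G (w ∘ Sum.inl) fun x hx => by
      rw [← hw _ (Finset.mem_union_left _ (Finset.mem_image_of_mem _ hx))]
      exact DFunLike.congr_fun (f := FreeGroup.lift (w ∘ Sum.inl))
        (g := (FreeGroup.lift w).comp (FreeGroup.map Sum.inl)) (FreeGroup.ext_hom _ _ fun i => by simp) x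
    have hwW : ∀ x, FreeGroup.lift w (W x) = φ x := fun x => by
      refine (DFunLike.congr_fun (f := (FreeGroup.lift w).comp (FreeGroup.map Sum.inl))
        (g := φ.comp (FreeGroup.lift vA)) (FreeGroup.ext_hom _ _ fun i => by simp [hφ]) (preA x)).trans ?_
      rw [MonoidHom.comp_apply, hpreA]
    set t := w (Sum.inr ()) with ht
    have hwt : FreeGroup.lift w tt = t := FreeGroup.lift_apply_of
    have h2 : t * t = 1 := by
      have := hw (tt * tt) (Finset.mem_union_right _ (Finset.mem_union_right _ (Finset.mem_singleton_self _)))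
      rwa [map_mul, hwt] at this
    have hc : ∀ x, t * φ x = φ (cj x) * t := fun x => by
      refine mul_inv_eq_iff_eq_mul.1 (DFunLike.congr_fun (MonoidHom.eq_of_eqOn_dense hGAg
        (f := (MulAut.conj t).toMonoidHom.comp φ) (g := φ.comp cj) fun g hg => ?_) x)
      have := hw _ (Finset.mem_union_right _ (Finset.mem_union_left _
        (Finset.mem_image_of_mem _ (Finset.mem_coe.1 hg))))
      rw [map_mul, map_mul, map_mul, map_inv, map_inv, hwW, hwW, hwt, mul_inv_eq_one] at this
      exact this
    let ev : ∀ σ : Perm α, G := fun σ =>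
      if h : Perm.sign σ = 1 then φ ⟨σ, Perm.mem_alternatingGroup.2 h⟩
      else φ ⟨σ * s, Perm.mem_alternatingGroup.2 (by
        rw [map_mul, (Int.units_eq_one_or _).resolve_left h, hsg]; rfl)⟩ * t
    have ev_e : ∀ (x : alternatingGroup α), ev (x : Perm α) = φ x := fun x =>
      dif_pos (Perm.mem_alternatingGroup.1 x.2)
    have ev_o : ∀ (x : alternatingGroup α), ev ((x : Perm α) * s) = φ x * t := fun x => by
      have h : ¬ Perm.sign ((x : Perm α) * s) = 1 := by
        rw [map_mul, Perm.mem_alternatingGroup.1 x.2, hsg]; decide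
      simp only [ev, dif_neg h]
      congr 2
      exact Subtype.ext (by show (x : Perm α) * s * s = x; rw [mul_assoc, hss, mul_one])
    have split : ∀ σ : Perm α, ∃ x : alternatingGroup α, σ = x ∨ σ = (x : Perm α) * s := by
      intro σ
      rcases Int.units_eq_one_or (Perm.sign σ) with h | h
      · exact ⟨⟨σ, Perm.mem_alternatingGroup.2 h⟩, Or.inl rfl⟩
      · exact ⟨⟨σ * s, Perm.mem_alternatingGroup.2 (by rw [map_mul, h, hsg]; rfl)⟩,
          Or.inr (by show σ = σ * s * s; rw [mul_assoc, hss, mul_one])⟩
    have hmul : ∀ σ τ, ev (σ * τ) = ev σ * ev τ := by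
      intro σ τ
      obtain ⟨x, rfl | rfl⟩ := split σ <;> obtain ⟨y, rfl | rfl⟩ := split τ
      · rw [ev_e, ev_e, show (x : Perm α) * y = ((x * y : alternatingGroup α) : Perm α) from rfl, ev_e,
          map_mul]
      · rw [ev_e, ev_o, ← mul_assoc, show (x : Perm α) * y = ((x * y : alternatingGroup α) : Perm α) from rfl,
          ev_o, map_mul, mul_assoc]
      · rw [ev_o, ev_e, show (x : Perm α) * s * y = ((x * cj y : alternatingGroup α) : Perm α) * s by
            show _ = (x : Perm α) * (s * y * s⁻¹) * s
            group, ev_o, map_mul, mul_assoc, mul_assoc, hc]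
      · rw [ev_o, ev_o, show (x : Perm α) * s * ((y : Perm α) * s) = ((x * cj y : alternatingGroup α) : Perm α) by
            show _ = (x : Perm α) * (s * y * s⁻¹)
            rw [hsinv]; group, ev_e, map_mul,
          show φ x * t * (φ y * t) = φ x * (t * φ y) * t by group, hc,
          show φ x * (φ (cj y) * t) * t = φ x * φ (cj y) * (t * t) by group, h2, mul_one]
    refine ⟨MonoidHom.mk' ev hmul, fun i => ?_⟩
    rcases i with i | i
    · exact (ev_e (vA i)).trans (hφ i)
    · show ev s = t
      have := ev_o 1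
      rwa [map_one, one_mul, OneMemClass.coe_one, one_mul] at this

end Cfsg.Agent.BoundedPres
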